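import Cfsg.Agent.ChevalleyStructure.E6Min.Adjoint

/-!
# S5927, S5928: the 27-dimensional module of E₆ is irreducible (helper879)
-/

set_option autoImplicit false

namespace Cfsg.Agent.H879.E6.Irr

open Cfsg.Lie Cfsg.Agent.ChevalleyStructure.E6Min.Tables Cfsg.Agent.ChevalleyStructure.E6Min.Basic
open scoped Matrix

theorem sep_all : allLt 27 (fun a => allLt 27 fun b => Nat.beq a b ||
    (List.range 72).any fun r => !(sgN r a == 0) && (sgN r b == 0)) = true := by decide +kernel

/-- a Hamiltonian cycle of the weights -/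
def cyc : List ℕ :=
  [0, 1, 2, 5, 3, 4, 7, 6, 8, 9, 10, 11, 14, 12, 13, 16, 15, 17, 18, 19, 20, 23, 21, 22, 25, 24, 26]

/-- the roots -/
def rts : List ℕ :=
  [36, 37, 15, 33, 36, 29, 35, 38, 68, 0, 46, 35, 70, 0, 34, 71, 1, 10, 56, 42, 71, 14, 56, 25, 15, 57, 26]

/-- `N_r e_a = ± e_b` for consecutive elements of the cycle -/
theorem cyc_all : allLt 27 (fun n =>
    let a := cyc.getD n 0
    let b := cyc.getD ((n + 1) % 27) 0
    let r := rts.getD n 0
    Nat.blt r 72 && Nat.blt a 27 && Nat.blt b 27 && !(sgN r b == 0) && allLt 27 fun c =>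
      (sgN r c == 0) || Nat.beq c b || !(Nat.beq (srN r c) a)) = true := by decide +kernel

theorem cyc_sr : allLt 27 (fun n => Nat.beq (srN (rts.getD n 0) (cyc.getD ((n + 1) % 27) 0)) (cyc.getD n 0)) = true := by
  decide +kernel

theorem cyc_surj : allLt 27 (fun a => (List.range 27).any fun n => Nat.beq (cyc.getD n 0) a) = true := by
  decide +kernel

variable {F : Type*} [Field F] {W : Submodule F (I27 → F)}

section
variable (hW : ∀ r < 72, ∀ x ∈ W, Nm F r *ᵥ x ∈ W)
include hW

theorem diag_mem {r : ℕ} (hr : r < 72) {x : I27 → F} (hx : x ∈ W) : (fun b => ((ind r b : ℤ) : F) * x b) ∈ W := by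
  have h := hW r hr _ (hW (71 - r) (by omega) x hx)
  rw [Matrix.mulVec_mulVec, Nm_mul_opp hr] at h
  convert h using 1
  funext b
  rw [Matrix.mulVec_diagonal]

theorem list_mem (l : List ℕ) (hl : ∀ r ∈ l, r < 72) {x : I27 → F} (hx : x ∈ W) :
    (fun b => (l.map fun r => ((ind r b : ℤ) : F)).prod * x b) ∈ W := by
  induction l with
  | nil => simpa using hx
  | cons r l ih =>
    have h := diag_mem hW (hl r List.mem_cons_self) (ih fun s hs => hl s (List.mem_cons_of_mem _ hs))
    convert h using 1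
    funext b
    rw [List.map_cons, List.prod_cons, mul_assoc]

theorem single_mem (a : I27) {x : I27 → F} (hx : x ∈ W) : (Pi.single a (x a) : I27 → F) ∈ W := by
  let l : List ℕ := (List.range 72).filter fun r => !(sgN r (code a) == 0)
  have hl : ∀ r ∈ l, r < 72 := fun r hr => List.mem_range.1 (List.mem_filter.1 hr).1
  have h := list_mem hW l hl hx
  convert h using 1
  funext b
  by_cases hb : b = a
  · subst hb
    rw [Pi.single_eq_same]
    have : (l.map fun r => ((ind r b : ℤ) : F)).prod = 1 := by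
      apply List.prod_eq_one
      intro y hy
      rw [List.mem_map] at hy
      obtain ⟨r, hr, rfl⟩ := hy
      have h1 := (List.mem_filter.1 hr).2
      have h2 : sg r b ≠ 0 := by
        unfold sg
        simpa using h1
      rw [ind_of_ne h2, Int.cast_one]
    rw [this, one_mul]
  · rw [Pi.single_eq_of_ne hb]
    have h1 := allLt_spec (allLt_spec sep_all _ (code_lt a)) _ (code_lt b)
    rw [Bool.or_eq_true, Nat.beq_eq] at h1
    rcases h1 with h1 | h1
    · exact absurd (code_injective h1).symm hb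
    · rw [List.any_eq_true] at h1
      obtain ⟨r, hr, h1⟩ := h1
      rw [Bool.and_eq_true] at h1
      have h2 : sg r b = 0 := by
        unfold sg
        simpa using h1.2
      have h3 : r ∈ l := List.mem_filter.2 ⟨hr, h1.1⟩
      have : (l.map fun r => ((ind r b : ℤ) : F)).prod = 0 := by
        apply List.prod_eq_zero
        rw [List.mem_map]
        exact ⟨r, h3, by rw [ind_of_eq h2, Int.cast_zero]⟩
      rw [this, zero_mul]

theorem step_mem {n : ℕ} (hn : n < 27) (h : (Pi.single (dec (cyc.getD n 0)) 1 : I27 → F) ∈ W) :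
    (Pi.single (dec (cyc.getD ((n + 1) % 27) 0)) 1 : I27 → F) ∈ W := by
  have h1 := allLt_spec cyc_all n hn
  have h4 := allLt_spec cyc_sr n hn
  simp only [Bool.and_eq_true, Nat.blt_eq] at h1
  rw [Nat.beq_eq] at h4
  set a := cyc.getD n 0
  set b := cyc.getD ((n + 1) % 27) 0
  set r := rts.getD n 0
  obtain ⟨⟨⟨⟨hr, ha⟩, hb⟩, hs⟩, h2⟩ := h1
  have hs' : sg r (dec b) ≠ 0 := by
    unfold sg
    rw [code_dec hb]
    simpa using hs
  have h3 := hW r hr _ h
  have hsq := Cfsg.Agent.ChevalleyStructure.E6Min.Adjoint.sg_sq r (dec b) hs'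
  have h5 := W.smul_mem (((sg r (dec b) : ℤ) : F)) h3
  convert h5 using 1
  funext c
  rw [Pi.smul_apply, smul_eq_mul, Nm_mulVec]
  by_cases hc : c = dec b
  · subst hc
    rw [Pi.single_eq_same]
    have : sr r (dec b) = dec a := by
      unfold sr
      rw [code_dec hb, h4]
    rw [this, Pi.single_eq_same, mul_one, ← Int.cast_mul, hsq, Int.cast_one]
  · rw [Pi.single_eq_of_ne hc]
    have h6 := allLt_spec h2 _ (code_lt c)
    rw [Bool.or_eq_true, Bool.or_eq_true, Nat.beq_eq] at h6
    rcases h6 with (h6 | h6) | h6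
    · have : sg r c = 0 := by unfold sg; simpa using h6
      rw [this, Int.cast_zero, zero_mul, mul_zero]
    · exact absurd (by rw [← h6, dec_code]) hc
    · have : sr r c ≠ dec a := by
        unfold sr
        rw [Ne, dec_eq_iff (srN_lt hr (code_lt c)) ha]
        rw [Bool.not_eq_true', ← Bool.not_eq_true, Nat.beq_eq] at h6
        exact h6
      rw [Pi.single_eq_of_ne this, mul_zero, mul_zero]

theorem eq_top_of_stable (h0 : W ≠ ⊥) : W = ⊤ := by
  obtain ⟨x, hx, hx0⟩ := W.ne_bot_iff.1 h0
  obtain ⟨a, ha⟩ : ∃ a, x a ≠ 0 := by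
    by_contra hcon
    push Not at hcon
    exact hx0 (funext hcon)
  have h1 : (Pi.single a 1 : I27 → F) ∈ W := by
    have := W.smul_mem (x a)⁻¹ (single_mem hW a hx)
    convert this using 1
    funext b
    by_cases hb : b = a
    · subst hb
      rw [Pi.smul_apply, Pi.single_eq_same, Pi.single_eq_same, smul_eq_mul, inv_mul_cancel₀ ha]
    · rw [Pi.smul_apply, Pi.single_eq_of_ne hb, Pi.single_eq_of_ne hb, smul_zero]
  -- the cycle
  have h2 := allLt_spec cyc_surj _ (code_lt a)
  rw [List.any_eq_true] at h2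
  obtain ⟨n, hn, h2⟩ := h2
  rw [List.mem_range] at hn
  rw [Nat.beq_eq] at h2
  have h3 : ∀ m : ℕ, (Pi.single (dec (cyc.getD ((n + m) % 27) 0)) 1 : I27 → F) ∈ W := by
    intro m
    induction m with
    | zero =>
      rw [Nat.add_zero, Nat.mod_eq_of_lt hn, h2, dec_code]
      exact h1
    | succ m ih =>
      have h4 := step_mem hW (Nat.mod_lt (n + m) (by norm_num)) ih
      have h5 : ((n + m) % 27 + 1) % 27 = (n + (m + 1)) % 27 := by omega
      rw [h5] at h4
      exact h4
  have h4 : ∀ b : I27, (Pi.single b 1 : I27 → F) ∈ W := by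
    intro b
    have h5 := allLt_spec cyc_surj _ (code_lt b)
    rw [List.any_eq_true] at h5
    obtain ⟨k, hk, h5⟩ := h5
    rw [List.mem_range] at hk
    rw [Nat.beq_eq] at h5
    have h6 := h3 (k + 27 - n)
    have h7 : (n + (k + 27 - n)) % 27 = k := by omega
    rw [h7, h5, dec_code] at h6
    exact h6
  rw [Submodule.eq_top_iff']
  intro y
  have : y = ∑ b, y b • (Pi.single b 1 : I27 → F) := by
    funext c
    simp [Finset.sum_apply, Pi.single_apply]
  rw [this]
  exact W.sum_mem fun b _ => W.smul_mem _ (h4 b)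

end

/-- **The 27-dimensional module is irreducible** under the group generated by the root elements. -/
theorem irred (hW : ∀ g ∈ Zgrp F, ∀ x ∈ W, (g : Matrix I27 I27 F) *ᵥ x ∈ W) (h0 : W ≠ ⊥) : W = ⊤ := by
  refine eq_top_of_stable (fun r hr x hx => ?_) h0
  have h := hW _ (zU_mem r (1 : F)) x hx
  rw [coe_zU hr, zM_def, one_smul, Matrix.add_mulVec, Matrix.one_mulVec] at h
  exact (W.add_mem_iff_right hx).1 h

end Cfsg.Agent.H879.E6.Irr
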