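import Cfsg.Agent.H879.E6.Vec

/-!
# S5927, S5928: the explicit tuples over the field with 5 elements (helper879)
-/

set_option autoImplicit false

namespace Cfsg.Agent.H879.E6

open Cfsg.Lie Cfsg.Agent.H952.F4 Cfsg.Agent.H952.F4.Jord Cfsg.Agent.H879.E6.Uniq
open Cfsg.Agent.ChevalleyStructure.E6Min.Tables Cfsg.Agent.ChevalleyStructure.E6Min.Basic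

/-- check that a list is a tuple with constant 1, with the table of the `w_ij` -/
def chkT (V W : List (List ℕ)) : Bool :=
  ((List.range 7).all fun i => (List.range 7).all fun j =>
    eqL (crL (V.getD i []) (V.getD j [])) (W.getD (7 * i + j) [])) &&
  ((List.range 7).all fun i => zeroL (W.getD (7 * i + i) [])) &&
  ((List.range 27).all fun n => Nat.beq (((List.range 7).map fun i => gt (V.getD i []) n).sum % 5) 0) &&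
  ((List.range 7).all fun i => (List.range 7).all fun j => (List.range 7).all fun k =>
    Nat.beq i j || Nat.beq i k || Nat.beq j k || Nat.beq (tfL (V.getD i []) (W.getD (7 * j + k) [])) 1)

/-- first tuple -/
def V0 : List (List ℕ) := [
  [1, 0, 0, 0, 0, 0, 0, 0, 0, 0, 0, 0, 0, 0, 0, 0, 0, 0, 0, 0, 0, 0, 0, 0, 0, 0, 0],
  [0, 0, 0, 0, 1, 0, 0, 0, 0, 0, 0, 0, 0, 0, 0, 0, 0, 0, 0, 0, 0, 0, 0, 0, 0, 0, 0],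
  [0, 0, 0, 0, 0, 0, 0, 0, 1, 0, 0, 0, 0, 0, 0, 0, 0, 0, 0, 0, 0, 0, 0, 0, 0, 0, 0],
  [1, 1, 1, 1, 1, 1, 1, 1, 1, 0, 0, 0, 0, 0, 0, 0, 0, 0, 0, 0, 0, 0, 0, 0, 0, 0, 0],
  [1, 0, 1, 1, 1, 0, 0, 1, 1, 2, 0, 0, 0, 1, 0, 0, 0, 1, 3, 3, 2, 4, 1, 1, 1, 4, 1],
  [1, 0, 1, 1, 1, 0, 0, 1, 1, 1, 4, 0, 0, 3, 4, 3, 0, 3, 1, 3, 0, 0, 2, 1, 1, 0, 2],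
  [1, 4, 2, 2, 1, 4, 4, 2, 1, 2, 1, 0, 0, 1, 1, 2, 0, 1, 1, 4, 3, 1, 2, 3, 3, 1, 2]]

def W0 : List (List ℕ) := [
  [0, 0, 0, 0, 0, 0, 0, 0, 0, 0, 0, 0, 0, 0, 0, 0, 0, 0, 0, 0, 0, 0, 0, 0, 0, 0, 0],
  [0, 0, 0, 0, 0, 0, 0, 0, 1, 0, 0, 0, 0, 0, 0, 0, 0, 0, 0, 0, 0, 0, 0, 0, 0, 0, 0],
  [0, 0, 0, 0, 1, 0, 0, 0, 0, 0, 0, 0, 0, 0, 0, 0, 0, 0, 0, 0, 0, 0, 0, 0, 0, 0, 0],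
  [0, 0, 0, 0, 1, 4, 0, 4, 1, 0, 0, 0, 0, 0, 0, 0, 0, 0, 0, 0, 0, 0, 0, 0, 0, 0, 0],
  [0, 0, 0, 0, 1, 0, 0, 4, 1, 3, 0, 0, 0, 0, 0, 0, 0, 0, 2, 0, 0, 1, 0, 0, 4, 0, 0],
  [0, 0, 0, 0, 1, 0, 0, 4, 1, 4, 1, 0, 0, 0, 0, 0, 0, 0, 4, 0, 0, 0, 0, 0, 4, 0, 0],
  [0, 0, 0, 0, 1, 1, 0, 3, 1, 3, 4, 0, 0, 0, 0, 0, 0, 0, 4, 0, 0, 4, 0, 0, 2, 0, 0],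
  [0, 0, 0, 0, 0, 0, 0, 0, 1, 0, 0, 0, 0, 0, 0, 0, 0, 0, 0, 0, 0, 0, 0, 0, 0, 0, 0],
  [0, 0, 0, 0, 0, 0, 0, 0, 0, 0, 0, 0, 0, 0, 0, 0, 0, 0, 0, 0, 0, 0, 0, 0, 0, 0, 0],
  [1, 0, 0, 0, 0, 0, 0, 0, 0, 0, 0, 0, 0, 0, 0, 0, 0, 0, 0, 0, 0, 0, 0, 0, 0, 0, 0],
  [1, 0, 4, 0, 0, 0, 4, 0, 1, 0, 0, 0, 0, 0, 0, 0, 0, 0, 0, 0, 0, 0, 0, 0, 0, 0, 0],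
  [1, 0, 4, 0, 0, 0, 0, 0, 1, 0, 0, 0, 0, 4, 0, 0, 0, 0, 0, 2, 0, 0, 4, 0, 0, 1, 0],
  [1, 0, 4, 0, 0, 0, 0, 0, 1, 0, 0, 0, 0, 2, 1, 0, 0, 0, 0, 2, 0, 0, 3, 0, 0, 0, 0],
  [1, 0, 3, 0, 0, 0, 1, 0, 1, 0, 0, 0, 0, 4, 4, 0, 0, 0, 0, 1, 0, 0, 3, 0, 0, 4, 0],
  [0, 0, 0, 0, 1, 0, 0, 0, 0, 0, 0, 0, 0, 0, 0, 0, 0, 0, 0, 0, 0, 0, 0, 0, 0, 0, 0],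
  [1, 0, 0, 0, 0, 0, 0, 0, 0, 0, 0, 0, 0, 0, 0, 0, 0, 0, 0, 0, 0, 0, 0, 0, 0, 0, 0],
  [0, 0, 0, 0, 0, 0, 0, 0, 0, 0, 0, 0, 0, 0, 0, 0, 0, 0, 0, 0, 0, 0, 0, 0, 0, 0, 0],
  [1, 4, 0, 4, 1, 0, 0, 0, 0, 0, 0, 0, 0, 0, 0, 0, 0, 0, 0, 0, 0, 0, 0, 0, 0, 0, 0],
  [1, 0, 0, 4, 1, 0, 0, 0, 0, 0, 0, 0, 0, 0, 0, 0, 0, 4, 0, 0, 3, 0, 0, 4, 0, 0, 4],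
  [1, 0, 0, 4, 1, 0, 0, 0, 0, 0, 0, 0, 0, 0, 0, 2, 0, 2, 0, 0, 0, 0, 0, 4, 0, 0, 3],
  [1, 1, 0, 3, 1, 0, 0, 0, 0, 0, 0, 0, 0, 0, 0, 3, 0, 4, 0, 0, 2, 0, 0, 2, 0, 0, 3],
  [0, 0, 0, 0, 1, 4, 0, 4, 1, 0, 0, 0, 0, 0, 0, 0, 0, 0, 0, 0, 0, 0, 0, 0, 0, 0, 0],
  [1, 0, 4, 0, 0, 0, 4, 0, 1, 0, 0, 0, 0, 0, 0, 0, 0, 0, 0, 0, 0, 0, 0, 0, 0, 0, 0],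
  [1, 4, 0, 4, 1, 0, 0, 0, 0, 0, 0, 0, 0, 0, 0, 0, 0, 0, 0, 0, 0, 0, 0, 0, 0, 0, 0],
  [0, 0, 0, 0, 0, 0, 0, 0, 0, 0, 0, 0, 0, 0, 0, 0, 0, 0, 0, 0, 0, 0, 0, 0, 0, 0, 0],
  [1, 1, 3, 3, 1, 1, 1, 3, 1, 3, 4, 4, 3, 4, 4, 3, 4, 4, 2, 2, 2, 4, 4, 4, 4, 4, 4],
  [1, 1, 3, 3, 1, 1, 1, 3, 1, 1, 3, 3, 1, 3, 3, 1, 3, 3, 1, 1, 1, 2, 2, 2, 2, 2, 2],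
  [1, 4, 0, 0, 1, 4, 4, 0, 1, 1, 3, 3, 1, 3, 3, 1, 3, 3, 2, 2, 2, 4, 4, 4, 4, 4, 4],
  [0, 0, 0, 0, 1, 0, 0, 4, 1, 3, 0, 0, 0, 0, 0, 0, 0, 0, 2, 0, 0, 1, 0, 0, 4, 0, 0],
  [1, 0, 4, 0, 0, 0, 0, 0, 1, 0, 0, 0, 0, 4, 0, 0, 0, 0, 0, 2, 0, 0, 4, 0, 0, 1, 0],
  [1, 0, 0, 4, 1, 0, 0, 0, 0, 0, 0, 0, 0, 0, 0, 0, 0, 4, 0, 0, 3, 0, 0, 4, 0, 0, 4],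
  [1, 1, 3, 3, 1, 1, 1, 3, 1, 3, 4, 4, 3, 4, 4, 3, 4, 4, 2, 2, 2, 4, 4, 4, 4, 4, 4],
  [0, 0, 0, 0, 0, 0, 0, 0, 0, 0, 0, 0, 0, 0, 0, 0, 0, 0, 0, 0, 0, 0, 0, 0, 0, 0, 0],
  [1, 4, 2, 2, 1, 4, 4, 2, 1, 4, 2, 3, 1, 2, 2, 4, 3, 2, 1, 3, 4, 3, 2, 1, 1, 3, 2],
  [1, 0, 1, 1, 1, 0, 0, 1, 1, 0, 4, 3, 1, 0, 4, 3, 3, 0, 0, 3, 1, 2, 0, 1, 1, 2, 0],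
  [0, 0, 0, 0, 1, 0, 0, 4, 1, 4, 1, 0, 0, 0, 0, 0, 0, 0, 4, 0, 0, 0, 0, 0, 4, 0, 0],
  [1, 0, 4, 0, 0, 0, 0, 0, 1, 0, 0, 0, 0, 2, 1, 0, 0, 0, 0, 2, 0, 0, 3, 0, 0, 0, 0],
  [1, 0, 0, 4, 1, 0, 0, 0, 0, 0, 0, 0, 0, 0, 0, 2, 0, 2, 0, 0, 0, 0, 0, 4, 0, 0, 3],
  [1, 1, 3, 3, 1, 1, 1, 3, 1, 1, 3, 3, 1, 3, 3, 1, 3, 3, 1, 1, 1, 2, 2, 2, 2, 2, 2],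
  [1, 4, 2, 2, 1, 4, 4, 2, 1, 4, 2, 3, 1, 2, 2, 4, 3, 2, 1, 3, 4, 3, 2, 1, 1, 3, 2],
  [0, 0, 0, 0, 0, 0, 0, 0, 0, 0, 0, 0, 0, 0, 0, 0, 0, 0, 0, 0, 0, 0, 0, 0, 0, 0, 0],
  [1, 0, 1, 1, 1, 0, 0, 1, 1, 1, 4, 4, 3, 3, 4, 3, 4, 3, 4, 4, 0, 0, 3, 3, 3, 0, 3],
  [0, 0, 0, 0, 1, 1, 0, 3, 1, 3, 4, 0, 0, 0, 0, 0, 0, 0, 4, 0, 0, 4, 0, 0, 2, 0, 0],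
  [1, 0, 3, 0, 0, 0, 1, 0, 1, 0, 0, 0, 0, 4, 4, 0, 0, 0, 0, 1, 0, 0, 3, 0, 0, 4, 0],
  [1, 1, 0, 3, 1, 0, 0, 0, 0, 0, 0, 0, 0, 0, 0, 3, 0, 4, 0, 0, 2, 0, 0, 2, 0, 0, 3],
  [1, 4, 0, 0, 1, 4, 4, 0, 1, 1, 3, 3, 1, 3, 3, 1, 3, 3, 2, 2, 2, 4, 4, 4, 4, 4, 4],
  [1, 0, 1, 1, 1, 0, 0, 1, 1, 0, 4, 3, 1, 0, 4, 3, 3, 0, 0, 3, 1, 2, 0, 1, 1, 2, 0],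
  [1, 0, 1, 1, 1, 0, 0, 1, 1, 1, 4, 4, 3, 3, 4, 3, 4, 3, 4, 4, 0, 0, 3, 3, 3, 0, 3],
  [0, 0, 0, 0, 0, 0, 0, 0, 0, 0, 0, 0, 0, 0, 0, 0, 0, 0, 0, 0, 0, 0, 0, 0, 0, 0, 0]]

/-- second tuple -/
def V2 : List (List ℕ) := [
  [1, 3, 2, 3, 1, 4, 4, 2, 1, 3, 2, 4, 2, 0, 1, 0, 0, 1, 3, 4, 0, 3, 2, 1, 2, 0, 2],
  [1, 1, 0, 0, 1, 1, 1, 0, 1, 2, 2, 2, 0, 1, 2, 3, 3, 4, 2, 1, 1, 1, 1, 0, 0, 0, 2],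
  [1, 1, 0, 0, 1, 1, 1, 0, 1, 2, 2, 0, 1, 4, 4, 4, 2, 1, 3, 0, 3, 0, 2, 0, 2, 2, 4],
  [1, 4, 2, 2, 1, 3, 4, 3, 1, 2, 0, 0, 3, 4, 2, 2, 1, 0, 1, 1, 0, 0, 1, 3, 1, 3, 2],
  [1, 4, 3, 2, 1, 4, 3, 2, 1, 0, 1, 1, 0, 1, 0, 4, 4, 4, 1, 3, 4, 0, 2, 2, 3, 0, 1],
  [1, 1, 0, 0, 1, 1, 1, 0, 1, 3, 4, 3, 4, 1, 2, 4, 0, 1, 1, 0, 0, 2, 4, 2, 0, 1, 1],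
  [4, 1, 3, 3, 4, 1, 1, 3, 4, 3, 4, 0, 0, 4, 4, 3, 0, 4, 4, 1, 2, 4, 3, 2, 2, 4, 3]]

def W2 : List (List ℕ) := [
  [0, 0, 0, 0, 0, 0, 0, 0, 0, 0, 0, 0, 0, 0, 0, 0, 0, 0, 0, 0, 0, 0, 0, 0, 0, 0, 0],
  [1, 4, 3, 4, 1, 1, 4, 2, 1, 3, 2, 3, 2, 4, 0, 4, 2, 4, 1, 1, 4, 2, 3, 2, 4, 1, 0],
  [1, 2, 3, 4, 1, 3, 3, 3, 1, 2, 4, 0, 0, 4, 1, 1, 2, 3, 4, 2, 1, 1, 2, 4, 1, 4, 3],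
  [1, 3, 2, 0, 1, 3, 0, 0, 1, 2, 4, 2, 1, 1, 1, 1, 0, 3, 3, 4, 4, 3, 0, 4, 4, 2, 4],
  [1, 3, 0, 0, 1, 0, 3, 2, 1, 2, 1, 3, 0, 3, 3, 3, 2, 1, 0, 2, 4, 2, 4, 4, 3, 3, 1],
  [1, 4, 2, 4, 1, 4, 1, 3, 1, 1, 2, 2, 1, 2, 1, 3, 2, 4, 2, 4, 3, 2, 1, 3, 4, 3, 0],
  [0, 4, 0, 3, 0, 4, 4, 0, 0, 0, 2, 0, 1, 1, 4, 3, 2, 0, 0, 2, 4, 0, 0, 3, 4, 2, 2],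
  [1, 4, 3, 4, 1, 1, 4, 2, 1, 3, 2, 3, 2, 4, 0, 4, 2, 4, 1, 1, 4, 2, 3, 2, 4, 1, 0],
  [0, 0, 0, 0, 0, 0, 0, 0, 0, 0, 0, 0, 0, 0, 0, 0, 0, 0, 0, 0, 0, 0, 0, 0, 0, 0, 0],
  [1, 1, 1, 2, 1, 1, 1, 2, 1, 3, 4, 2, 3, 2, 2, 4, 4, 0, 2, 3, 4, 0, 3, 2, 4, 0, 0],
  [1, 3, 3, 3, 1, 2, 3, 4, 1, 1, 3, 2, 0, 1, 4, 2, 0, 4, 4, 3, 2, 2, 3, 4, 4, 1, 2],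
  [1, 4, 4, 3, 1, 1, 4, 2, 1, 4, 1, 3, 4, 4, 4, 4, 2, 3, 3, 4, 1, 3, 0, 4, 3, 1, 4],
  [1, 1, 2, 1, 1, 1, 1, 2, 1, 0, 2, 4, 4, 4, 4, 4, 4, 2, 0, 2, 0, 3, 4, 1, 2, 0, 3],
  [0, 2, 2, 2, 0, 4, 2, 3, 0, 4, 3, 1, 2, 0, 1, 2, 3, 2, 0, 2, 4, 0, 2, 2, 3, 2, 1],
  [1, 2, 3, 4, 1, 3, 3, 3, 1, 2, 4, 0, 0, 4, 1, 1, 2, 3, 4, 2, 1, 1, 2, 4, 1, 4, 3],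
  [1, 1, 1, 2, 1, 1, 1, 2, 1, 3, 4, 2, 3, 2, 2, 4, 4, 0, 2, 3, 4, 0, 3, 2, 4, 0, 0],
  [0, 0, 0, 0, 0, 0, 0, 0, 0, 0, 0, 0, 0, 0, 0, 0, 0, 0, 0, 0, 0, 0, 0, 0, 0, 0, 0],
  [1, 1, 3, 2, 1, 4, 4, 4, 1, 3, 4, 2, 4, 3, 2, 2, 3, 2, 0, 2, 4, 1, 4, 3, 3, 2, 1],
  [1, 1, 4, 2, 1, 4, 4, 3, 1, 3, 0, 1, 4, 4, 2, 4, 3, 4, 4, 1, 1, 1, 0, 4, 2, 3, 2],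
  [1, 1, 2, 2, 1, 1, 1, 1, 1, 4, 2, 4, 3, 0, 2, 3, 2, 4, 4, 1, 0, 0, 0, 4, 1, 3, 4],
  [0, 4, 2, 3, 0, 2, 2, 2, 0, 0, 1, 1, 1, 2, 1, 1, 1, 2, 1, 1, 0, 2, 1, 3, 4, 3, 0],
  [1, 3, 2, 0, 1, 3, 0, 0, 1, 2, 4, 2, 1, 1, 1, 1, 0, 3, 3, 4, 4, 3, 0, 4, 4, 2, 4],
  [1, 3, 3, 3, 1, 2, 3, 4, 1, 1, 3, 2, 0, 1, 4, 2, 0, 4, 4, 3, 2, 2, 3, 4, 4, 1, 2],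
  [1, 1, 3, 2, 1, 4, 4, 4, 1, 3, 4, 2, 4, 3, 2, 2, 3, 2, 0, 2, 4, 1, 4, 3, 3, 2, 1],
  [0, 0, 0, 0, 0, 0, 0, 0, 0, 0, 0, 0, 0, 0, 0, 0, 0, 0, 0, 0, 0, 0, 0, 0, 0, 0, 0],
  [1, 0, 0, 2, 1, 3, 3, 0, 1, 1, 3, 0, 4, 1, 4, 2, 3, 1, 2, 2, 1, 3, 1, 3, 4, 3, 0],
  [1, 4, 2, 3, 1, 4, 1, 4, 1, 3, 2, 2, 1, 4, 2, 0, 1, 4, 0, 2, 3, 3, 2, 2, 2, 2, 3],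
  [0, 4, 0, 0, 0, 4, 4, 3, 0, 0, 4, 2, 0, 0, 2, 3, 3, 1, 1, 2, 1, 3, 0, 4, 3, 0, 0],
  [1, 3, 0, 0, 1, 0, 3, 2, 1, 2, 1, 3, 0, 3, 3, 3, 2, 1, 0, 2, 4, 2, 4, 4, 3, 3, 1],
  [1, 4, 4, 3, 1, 1, 4, 2, 1, 4, 1, 3, 4, 4, 4, 4, 2, 3, 3, 4, 1, 3, 0, 4, 3, 1, 4],
  [1, 1, 4, 2, 1, 4, 4, 3, 1, 3, 0, 1, 4, 4, 2, 4, 3, 4, 4, 1, 1, 1, 0, 4, 2, 3, 2],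
  [1, 0, 0, 2, 1, 3, 3, 0, 1, 1, 3, 0, 4, 1, 4, 2, 3, 1, 2, 2, 1, 3, 1, 3, 4, 3, 0],
  [0, 0, 0, 0, 0, 0, 0, 0, 0, 0, 0, 0, 0, 0, 0, 0, 0, 0, 0, 0, 0, 0, 0, 0, 0, 0, 0],
  [1, 3, 4, 3, 1, 3, 2, 3, 1, 3, 1, 0, 4, 3, 3, 3, 0, 1, 1, 2, 3, 4, 3, 1, 4, 2, 3],
  [0, 4, 3, 0, 0, 4, 4, 0, 0, 2, 4, 3, 4, 0, 4, 4, 0, 0, 0, 4, 0, 2, 2, 4, 4, 3, 0],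
  [1, 4, 2, 4, 1, 4, 1, 3, 1, 1, 2, 2, 1, 2, 1, 3, 2, 4, 2, 4, 3, 2, 1, 3, 4, 3, 0],
  [1, 1, 2, 1, 1, 1, 1, 2, 1, 0, 2, 4, 4, 4, 4, 4, 4, 2, 0, 2, 0, 3, 4, 1, 2, 0, 3],
  [1, 1, 2, 2, 1, 1, 1, 1, 1, 4, 2, 4, 3, 0, 2, 3, 2, 4, 4, 1, 0, 0, 0, 4, 1, 3, 4],
  [1, 4, 2, 3, 1, 4, 1, 4, 1, 3, 2, 2, 1, 4, 2, 0, 1, 4, 0, 2, 3, 3, 2, 2, 2, 2, 3],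
  [1, 3, 4, 3, 1, 3, 2, 3, 1, 3, 1, 0, 4, 3, 3, 3, 0, 1, 1, 2, 3, 4, 3, 1, 4, 2, 3],
  [0, 0, 0, 0, 0, 0, 0, 0, 0, 0, 0, 0, 0, 0, 0, 0, 0, 0, 0, 0, 0, 0, 0, 0, 0, 0, 0],
  [0, 2, 3, 2, 0, 2, 4, 2, 0, 4, 1, 3, 2, 2, 3, 2, 1, 0, 3, 4, 1, 3, 0, 4, 2, 0, 2],
  [0, 4, 0, 3, 0, 4, 4, 0, 0, 0, 2, 0, 1, 1, 4, 3, 2, 0, 0, 2, 4, 0, 0, 3, 4, 2, 2],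
  [0, 2, 2, 2, 0, 4, 2, 3, 0, 4, 3, 1, 2, 0, 1, 2, 3, 2, 0, 2, 4, 0, 2, 2, 3, 2, 1],
  [0, 4, 2, 3, 0, 2, 2, 2, 0, 0, 1, 1, 1, 2, 1, 1, 1, 2, 1, 1, 0, 2, 1, 3, 4, 3, 0],
  [0, 4, 0, 0, 0, 4, 4, 3, 0, 0, 4, 2, 0, 0, 2, 3, 3, 1, 1, 2, 1, 3, 0, 4, 3, 0, 0],
  [0, 4, 3, 0, 0, 4, 4, 0, 0, 2, 4, 3, 4, 0, 4, 4, 0, 0, 0, 4, 0, 2, 2, 4, 4, 3, 0],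
  [0, 2, 3, 2, 0, 2, 4, 2, 0, 4, 1, 3, 2, 2, 3, 2, 1, 0, 3, 4, 1, 3, 0, 4, 2, 0, 2],
  [0, 0, 0, 0, 0, 0, 0, 0, 0, 0, 0, 0, 0, 0, 0, 0, 0, 0, 0, 0, 0, 0, 0, 0, 0, 0, 0]]

theorem chk0 : chkT V0 W0 = true := by decide +kernel

theorem chk2 : chkT V2 W2 = true := by decide +kernel

/-- the basis -/
def B27 : List Q := [(1, 4, 3, 5), (1, 4, 3, 6), (1, 5, 2, 4), (1, 5, 3, 4), (1, 5, 3, 6), (1, 5, 4, 6), (1, 6, 2,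
  3), (1, 6, 2, 4), (1, 6, 2, 5), (1, 6, 3, 4), (1, 6, 3, 5), (1, 6, 4, 5), (2, 3, 4, 5), (2, 3, 4, 6), (2, 3, 5,
  6), (2, 4, 3, 5), (2, 4, 3, 6), (2, 4, 5, 6), (2, 5, 3, 4), (2, 5, 3, 6), (2, 5, 4, 6), (2, 6, 3, 4), (2, 6, 3,
  5), (2, 6, 4, 5), (3, 4, 5, 6), (3, 5, 4, 6), (3, 6, 4, 5)]

def U27 : List (List ℕ) := [
  [1, 4, 1, 4, 3, 3, 0, 0, 1, 1, 3, 0, 0, 1, 0, 3, 3, 2, 0, 3, 1, 1, 1, 1, 1, 4, 3],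
  [1, 4, 1, 4, 3, 0, 0, 3, 1, 2, 3, 0, 0, 1, 0, 2, 3, 2, 0, 3, 0, 1, 1, 4, 2, 4, 0],
  [1, 0, 1, 1, 1, 4, 0, 0, 1, 2, 2, 3, 0, 3, 4, 0, 0, 1, 0, 3, 2, 3, 2, 1, 0, 0, 1],
  [1, 3, 1, 0, 3, 4, 0, 4, 1, 2, 0, 1, 0, 3, 4, 0, 3, 1, 1, 3, 4, 0, 2, 4, 0, 0, 1],
  [1, 0, 1, 3, 3, 4, 0, 4, 1, 2, 4, 3, 0, 3, 4, 2, 0, 0, 1, 3, 4, 2, 2, 2, 4, 0, 2],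
  [1, 2, 1, 4, 3, 2, 0, 4, 1, 3, 4, 1, 0, 3, 4, 4, 2, 0, 0, 3, 2, 3, 2, 1, 3, 0, 1],
  [1, 1, 2, 1, 1, 2, 4, 4, 1, 0, 4, 4, 0, 1, 1, 0, 0, 0, 1, 4, 0, 3, 2, 0, 4, 1, 0],
  [1, 0, 2, 1, 1, 0, 4, 4, 1, 1, 3, 3, 0, 1, 1, 0, 0, 1, 4, 4, 2, 4, 2, 1, 0, 1, 1],
  [1, 0, 2, 1, 1, 4, 4, 0, 1, 2, 2, 3, 0, 1, 1, 3, 0, 3, 4, 4, 0, 2, 2, 1, 3, 1, 2],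
  [1, 2, 2, 1, 3, 1, 4, 2, 1, 4, 4, 3, 0, 1, 1, 3, 1, 2, 3, 4, 1, 0, 2, 4, 3, 1, 2],
  [1, 1, 2, 2, 3, 2, 4, 1, 1, 4, 1, 3, 0, 1, 1, 0, 0, 3, 0, 4, 0, 1, 2, 0, 0, 1, 2],
  [1, 0, 2, 1, 3, 0, 4, 1, 1, 1, 2, 4, 0, 1, 1, 1, 4, 2, 4, 4, 0, 1, 2, 2, 3, 1, 0],
  [1, 1, 4, 1, 1, 4, 4, 4, 3, 2, 0, 4, 3, 0, 1, 0, 0, 0, 2, 3, 0, 4, 1, 0, 2, 3, 0],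
  [1, 1, 4, 1, 1, 4, 4, 4, 3, 1, 1, 1, 4, 4, 4, 0, 0, 0, 3, 2, 0, 3, 2, 0, 1, 4, 0],
  [1, 1, 4, 1, 1, 4, 4, 4, 3, 2, 4, 0, 3, 1, 0, 0, 0, 0, 0, 0, 0, 3, 2, 0, 2, 3, 0],
  [1, 0, 0, 1, 1, 4, 3, 4, 3, 4, 4, 3, 0, 3, 3, 0, 0, 1, 4, 3, 2, 2, 0, 1, 1, 1, 1],
  [1, 0, 3, 1, 1, 4, 0, 4, 3, 4, 1, 3, 0, 1, 3, 0, 0, 1, 0, 1, 2, 0, 0, 1, 4, 1, 1],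
  [1, 0, 4, 1, 1, 2, 2, 4, 3, 1, 0, 4, 0, 3, 4, 0, 0, 1, 2, 2, 2, 1, 2, 1, 2, 1, 1],
  [1, 0, 4, 1, 1, 3, 4, 0, 3, 2, 0, 3, 2, 1, 0, 3, 0, 3, 3, 0, 0, 3, 2, 1, 4, 0, 2],
  [1, 0, 4, 1, 1, 0, 4, 3, 3, 0, 1, 0, 1, 1, 4, 3, 0, 3, 1, 2, 0, 3, 2, 1, 2, 2, 2],
  [1, 0, 4, 1, 1, 2, 2, 4, 3, 0, 2, 2, 2, 4, 4, 3, 0, 3, 3, 4, 0, 4, 0, 1, 1, 3, 2],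
  [1, 4, 2, 2, 1, 2, 1, 1, 3, 4, 4, 1, 1, 2, 4, 2, 0, 1, 1, 4, 3, 2, 1, 3, 4, 0, 2],
  [1, 4, 1, 2, 1, 1, 2, 2, 3, 1, 0, 0, 1, 2, 1, 2, 0, 1, 1, 0, 3, 0, 0, 3, 0, 1, 2],
  [1, 4, 1, 2, 1, 0, 0, 1, 3, 4, 3, 4, 3, 3, 2, 2, 0, 1, 0, 4, 3, 0, 3, 3, 2, 1, 2],
  [3, 2, 3, 3, 3, 2, 2, 3, 3, 3, 1, 1, 2, 4, 1, 2, 1, 4, 2, 2, 4, 3, 4, 4, 4, 3, 4],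
  [3, 2, 3, 3, 3, 2, 2, 3, 3, 2, 4, 2, 4, 1, 4, 3, 2, 1, 2, 3, 4, 3, 4, 1, 1, 3, 4],
  [3, 1, 4, 4, 3, 1, 1, 4, 3, 0, 0, 2, 4, 0, 0, 0, 2, 0, 1, 0, 2, 4, 2, 0, 0, 4, 2]]

/-- the dual basis -/
def D27 : List (List ℕ) := [
  [0, 0, 3, 0, 0, 0, 1, 1, 0, 3, 1, 3, 1, 4, 3, 2, 4, 0, 4, 0, 0, 0, 1, 3, 0, 0, 2],
  [0, 0, 2, 0, 0, 2, 2, 4, 0, 3, 0, 1, 2, 3, 3, 2, 4, 0, 1, 0, 0, 2, 3, 3, 1, 3, 2],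
  [0, 1, 4, 4, 0, 1, 1, 4, 0, 1, 0, 0, 0, 3, 0, 0, 0, 3, 3, 4, 0, 0, 1, 3, 3, 0, 1],
  [0, 1, 3, 4, 0, 0, 1, 1, 0, 4, 3, 1, 1, 0, 4, 1, 1, 4, 0, 1, 3, 1, 0, 1, 3, 3, 2],
  [0, 0, 1, 0, 0, 3, 3, 3, 0, 2, 2, 0, 1, 0, 2, 1, 1, 1, 4, 3, 3, 0, 1, 3, 1, 3, 1],
  [0, 1, 4, 4, 0, 1, 1, 4, 0, 4, 2, 4, 4, 2, 4, 4, 2, 4, 3, 3, 3, 3, 3, 3, 0, 0, 0],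
  [4, 1, 0, 4, 1, 0, 2, 3, 0, 0, 1, 2, 0, 4, 4, 4, 4, 2, 2, 3, 2, 3, 3, 0, 2, 0, 0],
  [4, 0, 1, 0, 1, 4, 1, 4, 0, 4, 0, 3, 2, 1, 3, 2, 0, 4, 3, 0, 2, 3, 0, 4, 1, 0, 2],
  [4, 2, 4, 3, 1, 1, 3, 2, 0, 4, 3, 1, 3, 1, 1, 3, 3, 4, 2, 3, 4, 2, 3, 0, 2, 4, 0],
  [4, 0, 4, 0, 1, 4, 2, 0, 0, 2, 1, 4, 3, 1, 2, 4, 0, 3, 1, 3, 4, 0, 0, 3, 2, 4, 4],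
  [4, 2, 3, 3, 1, 0, 3, 4, 0, 0, 1, 0, 2, 2, 0, 0, 3, 3, 3, 0, 1, 2, 4, 4, 4, 1, 2],
  [4, 1, 0, 4, 1, 0, 2, 3, 0, 2, 0, 2, 1, 3, 2, 1, 0, 0, 4, 0, 1, 2, 3, 0, 4, 1, 2],
  [4, 1, 1, 3, 2, 0, 4, 0, 4, 3, 4, 0, 1, 1, 2, 4, 0, 4, 4, 3, 3, 1, 2, 2, 0, 0, 0],
  [0, 3, 3, 1, 1, 4, 0, 3, 4, 4, 2, 2, 3, 0, 0, 3, 3, 2, 1, 1, 1, 1, 4, 3, 4, 3, 4],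
  [0, 1, 0, 3, 1, 2, 3, 0, 4, 1, 3, 2, 1, 1, 3, 0, 0, 2, 2, 4, 4, 2, 1, 4, 4, 0, 2],
  [4, 2, 0, 1, 2, 0, 0, 1, 4, 1, 1, 2, 3, 4, 1, 2, 2, 3, 4, 3, 3, 1, 1, 0, 3, 0, 3],
  [0, 0, 4, 3, 1, 1, 4, 2, 4, 2, 3, 2, 2, 2, 3, 1, 3, 0, 3, 4, 0, 3, 4, 1, 3, 3, 4],
  [0, 2, 0, 3, 1, 4, 4, 0, 4, 2, 3, 2, 4, 0, 4, 3, 1, 1, 1, 0, 2, 4, 2, 0, 2, 1, 4],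
  [4, 2, 1, 1, 2, 0, 4, 1, 4, 4, 0, 2, 4, 0, 4, 3, 4, 0, 2, 4, 0, 3, 1, 2, 1, 4, 1],
  [0, 4, 4, 4, 1, 0, 4, 3, 4, 0, 3, 3, 2, 2, 2, 0, 4, 3, 4, 0, 1, 3, 0, 3, 3, 3, 4],
  [0, 3, 4, 2, 1, 0, 0, 4, 4, 3, 2, 3, 1, 1, 0, 0, 0, 4, 1, 4, 0, 3, 0, 1, 2, 4, 1],
  [0, 3, 3, 0, 1, 3, 0, 0, 4, 4, 3, 4, 3, 1, 4, 1, 2, 3, 1, 4, 0, 2, 2, 2, 3, 4, 3],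
  [0, 2, 0, 1, 1, 2, 3, 1, 4, 4, 4, 0, 1, 2, 2, 4, 1, 4, 4, 2, 4, 0, 4, 2, 0, 1, 0],
  [0, 2, 0, 3, 1, 4, 4, 0, 4, 2, 2, 3, 0, 1, 0, 4, 0, 4, 3, 1, 2, 2, 4, 0, 0, 2, 4],
  [0, 3, 0, 2, 1, 3, 1, 1, 3, 2, 1, 1, 2, 2, 1, 0, 3, 1, 3, 2, 1, 1, 2, 1, 3, 0, 3],
  [0, 4, 4, 1, 1, 4, 2, 0, 3, 0, 1, 2, 1, 3, 4, 1, 0, 2, 0, 4, 2, 3, 1, 0, 0, 2, 2],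
  [0, 0, 3, 0, 1, 1, 3, 3, 3, 0, 0, 0, 2, 2, 4, 1, 3, 1, 2, 4, 1, 0, 3, 0, 1, 0, 4]]

theorem chkB : ((List.range 27).all fun n =>
    let b := B27.getD n (0, 0, 0, 0)
    eqL (crL (W0.getD (7 * b.1.val + b.2.1.val) []) (W0.getD (7 * b.2.2.1.val + b.2.2.2.val) [])) (U27.getD n [])) =
    true := by decide +kernel

theorem chkD : ((List.range 27).all fun n => (List.range 27).all fun m =>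
    Nat.beq (tfL (D27.getD n []) (U27.getD m [])) (bif Nat.beq n m then 1 else 0)) = true := by decide +kernel

/-- generators of the 8-dimensional space -/
def B8 : List Q := [(0, 1, 2, 3), (0, 1, 3, 2), (0, 1, 2, 4), (0, 1, 4, 2), (0, 1, 2, 5), (0, 1, 5, 2), (0, 1, 3,
  4), (0, 1, 3, 5)]

def E8L : List (List ℕ) := [
  [0, 4, 1, 4, 0, 0, 1, 0, 0, 0, 0, 0, 0, 0, 0, 0, 0, 0, 0, 0, 0, 0, 0, 0, 0, 0, 0],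
  [0, 4, 0, 4, 0, 1, 0, 1, 0, 0, 0, 0, 0, 0, 0, 0, 0, 0, 0, 0, 0, 0, 0, 0, 0, 0, 0],
  [0, 0, 1, 4, 0, 0, 0, 0, 0, 0, 0, 0, 0, 1, 0, 0, 0, 4, 0, 3, 3, 0, 1, 4, 0, 4, 4],
  [0, 0, 0, 4, 0, 0, 0, 1, 0, 2, 0, 0, 0, 0, 0, 0, 0, 4, 3, 0, 3, 4, 0, 4, 1, 0, 4],
  [0, 0, 1, 4, 0, 0, 0, 0, 0, 0, 0, 0, 0, 3, 4, 2, 0, 2, 0, 3, 0, 0, 2, 4, 0, 0, 3],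
  [0, 0, 0, 4, 0, 0, 0, 1, 0, 1, 4, 0, 0, 0, 0, 2, 0, 2, 1, 0, 0, 0, 0, 4, 1, 0, 3],
  [0, 1, 4, 3, 0, 2, 1, 4, 0, 3, 4, 4, 3, 0, 4, 3, 4, 4, 2, 0, 2, 4, 0, 4, 4, 3, 4],
  [0, 1, 4, 3, 0, 2, 1, 4, 0, 1, 3, 3, 1, 1, 2, 1, 3, 3, 1, 4, 1, 2, 4, 2, 2, 2, 2]]

def F7 : List (List ℕ) := [
  [3, 0, 0, 3, 3, 4, 3, 4, 3, 1, 1, 3, 2, 3, 2, 3, 0, 1, 4, 0, 3, 4, 1, 2, 3, 0, 4],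
  [3, 4, 3, 1, 3, 2, 1, 3, 3, 2, 1, 0, 0, 1, 3, 1, 2, 3, 2, 1, 1, 3, 2, 0, 1, 1, 1],
  [3, 2, 3, 1, 3, 4, 0, 4, 3, 1, 3, 2, 3, 1, 4, 3, 2, 2, 0, 2, 3, 2, 1, 2, 3, 4, 4],
  [3, 1, 1, 2, 3, 2, 2, 1, 3, 0, 0, 3, 2, 4, 0, 2, 4, 4, 3, 3, 1, 4, 0, 3, 2, 1, 3],
  [3, 4, 3, 2, 3, 0, 4, 1, 3, 4, 0, 4, 1, 4, 1, 4, 1, 0, 1, 0, 3, 4, 3, 3, 1, 4, 0],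
  [3, 3, 3, 3, 3, 2, 4, 4, 3, 4, 1, 4, 4, 1, 0, 4, 2, 1, 3, 0, 2, 4, 1, 1, 1, 1, 4],
  [2, 1, 2, 3, 2, 1, 1, 3, 2, 3, 4, 4, 3, 1, 0, 3, 4, 4, 2, 4, 2, 4, 2, 4, 4, 4, 4]]

def C49 : List (List ℕ) := [
  [0, 0, 0, 0, 0, 0, 0, 0],
  [0, 0, 0, 0, 0, 0, 0, 0],
  [0, 0, 0, 0, 0, 0, 0, 0],
  [4, 0, 4, 3, 4, 3, 3, 3],
  [2, 3, 3, 2, 1, 1, 4, 0],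
  [2, 4, 1, 3, 3, 0, 4, 3],
  [2, 3, 2, 2, 2, 1, 4, 4],
  [0, 0, 0, 0, 0, 0, 0, 0],
  [0, 0, 0, 0, 0, 0, 0, 0],
  [0, 0, 0, 0, 0, 0, 0, 0],
  [1, 0, 1, 2, 1, 2, 2, 2],
  [3, 2, 2, 3, 4, 4, 1, 0],
  [3, 1, 4, 2, 2, 0, 1, 2],
  [3, 2, 3, 3, 3, 4, 1, 1],
  [0, 0, 0, 0, 0, 0, 0, 0],
  [0, 0, 0, 0, 0, 0, 0, 0],
  [0, 0, 0, 0, 0, 0, 0, 0],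
  [0, 4, 3, 1, 3, 1, 1, 1],
  [0, 0, 0, 0, 3, 3, 0, 0],
  [0, 1, 3, 4, 0, 0, 2, 0],
  [0, 0, 4, 0, 4, 1, 2, 4],
  [4, 0, 4, 3, 4, 3, 3, 3],
  [1, 0, 1, 2, 1, 2, 2, 2],
  [0, 4, 3, 1, 3, 1, 1, 1],
  [0, 0, 0, 0, 0, 0, 0, 0],
  [0, 2, 3, 3, 0, 0, 2, 0],
  [0, 0, 0, 0, 3, 4, 0, 0],
  [0, 4, 4, 1, 4, 0, 2, 4],
  [2, 3, 3, 2, 1, 1, 4, 0],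
  [3, 2, 2, 3, 4, 4, 1, 0],
  [0, 0, 0, 0, 3, 3, 0, 0],
  [0, 2, 3, 3, 0, 0, 2, 0],
  [0, 0, 0, 0, 0, 0, 0, 0],
  [0, 3, 1, 2, 1, 2, 0, 4],
  [0, 0, 1, 0, 1, 0, 3, 1],
  [2, 4, 1, 3, 3, 0, 4, 3],
  [3, 1, 4, 2, 2, 0, 1, 2],
  [0, 1, 3, 4, 0, 0, 2, 0],
  [0, 0, 0, 0, 3, 4, 0, 0],
  [0, 3, 1, 2, 1, 2, 0, 4],
  [0, 0, 0, 0, 0, 0, 0, 0],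
  [0, 1, 1, 4, 1, 4, 3, 1],
  [2, 3, 2, 2, 2, 1, 4, 4],
  [3, 2, 3, 3, 3, 4, 1, 1],
  [0, 0, 4, 0, 4, 1, 2, 4],
  [0, 4, 4, 1, 4, 0, 2, 4],
  [0, 0, 1, 0, 1, 0, 3, 1],
  [0, 1, 1, 4, 1, 4, 3, 1],
  [0, 0, 0, 0, 0, 0, 0, 0]]

theorem chkE : ((List.range 8).all fun n =>
    let b := B8.getD n (0, 0, 0, 0)
    dis b && eqL (addL (addL (W0.getD (7 * b.1.val + b.2.1.val) []) (W0.getD (7 * b.2.2.1.val + b.2.2.2.val) []))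
      (smulL 4 (addL (W0.getD (7 * b.1.val + b.2.2.1.val) []) (W0.getD (7 * b.2.1.val + b.2.2.2.val) []))))
      (E8L.getD n [])) = true := by decide +kernel

/-- linear combination of the generators -/
def lin8 (c : List ℕ) : List ℕ :=
  addL (addL (addL (smulL (c.getD 0 0) (E8L.getD 0 [])) (smulL (c.getD 1 0) (E8L.getD 1 [])))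
    (addL (smulL (c.getD 2 0) (E8L.getD 2 [])) (smulL (c.getD 3 0) (E8L.getD 3 []))))
    (addL (addL (smulL (c.getD 4 0) (E8L.getD 4 [])) (smulL (c.getD 5 0) (E8L.getD 5 [])))
    (addL (smulL (c.getD 6 0) (E8L.getD 6 [])) (smulL (c.getD 7 0) (E8L.getD 7 []))))

theorem chkW : ((List.range 7).all fun i => (List.range 7).all fun j => Nat.beq i j ||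
    eqL (W2.getD (7 * i + j) []) (addL (addL (F7.getD i []) (F7.getD j [])) (lin8 (C49.getD (7 * i + j) [])))) =
    true := by decide +kernel

theorem chkN : ((List.range 7).all fun j => (List.range 27).any fun s => (List.range 27).any fun t =>
    !(Nat.beq (gt (V2.getD 0 []) s * gt (V0.getD j []) t % 5) (gt (V2.getD 0 []) t * gt (V0.getD j []) s % 5))) =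
    true := by decide +kernel

end Cfsg.Agent.H879.E6
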