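import Cfsg.Agent.H879.E6.UniqC

/-!
# S5927, S5928: uniqueness of the cubic form of (A7, p = 5), fourth part (helper879)

`Z F t`: all functions `d` with `Good d` are zero at `t`. The 86 orbits of triples of indices.
-/

set_option autoImplicit false

namespace Cfsg.Agent.H879.E6.Uniq

open Good (inj inj_iff)

abbrev T := Q × Q × Q

/-- number of an index -/
def cd (q : Q) : ℕ := ((q.1.val * 7 + q.2.1.val) * 7 + q.2.2.1.val) * 7 + q.2.2.2.val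

/-- sort two indices -/
def sq (x y : Q) : Q × Q := bif Nat.ble (cd x) (cd y) then (x, y) else (y, x)

/-- canonical form of a triple of indices -/
def cn (t : T) : T :=
  let a := sq (cq t.1) (cq t.2.1)
  let b := sq a.2 (cq t.2.2)
  let c := sq a.1 b.1
  (c.1, c.2, b.2)

/-- relabelling of a triple -/
def actT (s : Fin 7 → Fin 7) (t : T) : T := (act s t.1, act s t.2.1, act s t.2.2)

/-- equality of triples -/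
def tb (x y : T) : Bool := qb x.1 y.1 && qb x.2.1 y.2.1 && qb x.2.2 y.2.2

theorem tb_iff {x y : T} : tb x y = true ↔ x = y := by
  obtain ⟨a, b, c⟩ := x
  obtain ⟨a', b', c'⟩ := y
  simp only [tb, Bool.and_eq_true, qb_iff, Prod.mk.injEq]
  tauto

/-- all good functions are zero at `t` -/
def Z (F : Type*) [Field F] (t : T) : Prop := ∀ d : Q → Q → Q → F, Good d → d t.1 t.2.1 t.2.2 = 0

variable {F : Type*} [Field F]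

theorem Good.cn_eq {d : Q → Q → Q → F} (h : Good d) (t : T) : d (cn t).1 (cn t).2.1 (cn t).2.2 = d t.1 t.2.1 t.2.2 := by
  have e1 : ∀ x y z, d (sq x y).1 (sq x y).2 z = d x y z := by
    intro x y z
    unfold sq
    rcases Bool.eq_false_or_eq_true (Nat.ble (cd x) (cd y)) with hh | hh
    · rw [hh]; rfl
    · rw [hh]; exact h.s12 _ _ _
  have e2 : ∀ x y z, d x (sq y z).1 (sq y z).2 = d x y z := by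
    intro x y z
    unfold sq
    rcases Bool.eq_false_or_eq_true (Nat.ble (cd y) (cd z)) with hh | hh
    · rw [hh]; rfl
    · rw [hh]; exact h.s23 _ _ _
  obtain ⟨x, y, z⟩ := t
  unfold cn
  dsimp only
  rw [e1, e2, e1, h.cq1, h.s23, h.cq1, h.s12, h.s23, h.cq1]
  rw [h.s23, h.s12, h.s23]

theorem Z_cn {t t' : T} (h : Z F t) (e : cn t = cn t') : Z F t' := by
  intro d hd
  rw [← hd.cn_eq t', ← e, hd.cn_eq t]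
  exact h d hd

theorem Z_rel {t : T} (h : Z F t) {s : Fin 7 → Fin 7} (hs : Function.Injective s) : Z F (actT s t) := by
  intro d hd
  exact h (Good.rl d s) (hd.rel hs)

/-- relabelling, with hints checked by the kernel -/
theorem Z_of {t : T} (s : Fin 7 → Fin 7) (t' : T) (h : Z F t) (e : (inj s && tb (cn (actT s t)) (cn t')) = true) :
    Z F t' := by
  rw [Bool.and_eq_true, tb_iff] at e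
  exact Z_cn (Z_rel h (inj_iff e.1)) e.2

theorem Z_star (i j k l m n : Fin 7) (z : Q) : Z F ((i, j, k, l), (i, j, m, n), z) := fun _ hd => hd.star _ _ _ _ _ _ _

theorem Z_three (h2 : (2 : F) ≠ 0) (x y : Q) (i j k l : Fin 7) (hq : dis (i, j, k, l) = true)
    (h1 : Z F (x, y, (i, k, j, l))) (h3 : Z F (x, y, (i, l, j, k))) : Z F (x, y, (i, j, k, l)) := by
  intro d hd
  obtain ⟨g1, g2, g3, g4, g5, g6⟩ := dis_iff.1 hq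
  have h := hd.three x y i j k l g1 g2 g3 g4 g5 g6
  have e1 : d x y (i, k, j, l) = 0 := h1 d hd
  have e2 : d x y (i, l, j, k) = 0 := h3 d hd
  have ev : ∀ g, d x y (vv g) = 0 := fun g => by rw [hd.c13, hd.vzero h2]
  rw [e1, e2, ev, ev, ev, ev] at h
  change d x y (i, j, k, l) = 0
  linear_combination h

theorem Z_ovl (h2 : (2 : F) ≠ 0) (x y : Q) {z : Q} (hz : dis z = false) : Z F (x, y, z) := by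
  intro d hd
  exact hd.ovl _ _ (fun g => by rw [hd.c13, hd.vzero h2]) hz

theorem Z_sum (h2 : (2 : F) ≠ 0) (x y : Q) (i j k l m n p : Fin 7)
    (hq : ((List.finRange 7).all fun t => !(dis (i, j, k, t)) || eb t l || eb t m || eb t n || eb t p) = true)
    (h1 : Z F (x, y, (i, j, k, m))) (h3 : Z F (x, y, (i, j, k, n))) (h4 : Z F (x, y, (i, j, k, p))) :
    Z F (x, y, (i, j, k, l)) := by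
  intro d hd
  have h := hd.sum x y i j k
  rw [Finset.sum_eq_single l] at h
  · exact h
  · intro t _ ht
    have := List.all_eq_true.1 hq t (List.mem_finRange t)
    rw [Bool.or_eq_true, Bool.or_eq_true, Bool.or_eq_true, Bool.or_eq_true, eb_iff, eb_iff, eb_iff, eb_iff] at this
    rcases this with (((h5 | h5) | h5) | h5) | h5
    · rw [Bool.not_eq_true'] at h5
      exact Z_ovl h2 x y h5 d hd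
    · exact absurd h5 ht
    · rw [h5]; exact h1 d hd
    · rw [h5]; exact h3 d hd
    · rw [h5]; exact h4 d hd
  · intro hn
    exact absurd (Finset.mem_univ _) hn

section

theorem z0 : Z F ((0, 1, 2, 3), (0, 1, 2, 3), (0, 1, 2, 3)) :=
  (Z_cn (Z_star 0 1 2 3 2 3 (0, 1, 2, 3)) (tb_iff.1 (by decide)))

theorem z1 : Z F ((0, 1, 2, 3), (0, 1, 2, 3), (0, 1, 2, 4)) :=
  (Z_cn (Z_star 0 1 2 3 2 3 (0, 1, 2, 4)) (tb_iff.1 (by decide)))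

theorem z2 : Z F ((0, 1, 2, 3), (0, 1, 2, 3), (0, 1, 4, 5)) :=
  (Z_cn (Z_star 0 1 2 3 2 3 (0, 1, 4, 5)) (tb_iff.1 (by decide)))

theorem z3 : Z F ((0, 1, 2, 3), (0, 1, 2, 3), (0, 2, 1, 3)) :=
  (Z_cn (Z_star 0 1 2 3 2 3 (0, 2, 1, 3)) (tb_iff.1 (by decide)))

theorem z4 : Z F ((0, 1, 2, 3), (0, 1, 2, 3), (0, 2, 1, 4)) :=
  (Z_cn (Z_star 0 1 2 3 2 3 (0, 2, 1, 4)) (tb_iff.1 (by decide)))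

theorem z5 : Z F ((0, 1, 2, 3), (0, 1, 2, 3), (0, 2, 4, 5)) :=
  (Z_cn (Z_star 0 1 2 3 2 3 (0, 2, 4, 5)) (tb_iff.1 (by decide)))

theorem z6 : Z F ((0, 1, 2, 3), (0, 1, 2, 3), (0, 4, 1, 5)) :=
  (Z_cn (Z_star 0 1 2 3 2 3 (0, 4, 1, 5)) (tb_iff.1 (by decide)))

theorem z7 : Z F ((0, 1, 2, 3), (0, 1, 2, 3), (0, 4, 2, 5)) :=
  (Z_cn (Z_star 0 1 2 3 2 3 (0, 4, 2, 5)) (tb_iff.1 (by decide)))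

theorem z8 : Z F ((0, 1, 2, 3), (0, 1, 2, 3), (0, 4, 5, 6)) :=
  (Z_cn (Z_star 0 1 2 3 2 3 (0, 4, 5, 6)) (tb_iff.1 (by decide)))

theorem z9 : Z F ((0, 1, 2, 3), (0, 1, 2, 4), (0, 1, 2, 5)) :=
  (Z_cn (Z_star 0 1 2 3 2 4 (0, 1, 2, 5)) (tb_iff.1 (by decide)))

theorem z10 : Z F ((0, 1, 2, 3), (0, 1, 2, 4), (0, 1, 3, 4)) :=
  (Z_cn (Z_star 0 1 2 3 2 4 (0, 1, 3, 4)) (tb_iff.1 (by decide)))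

theorem z11 : Z F ((0, 1, 2, 3), (0, 1, 2, 4), (0, 1, 3, 5)) :=
  (Z_cn (Z_star 0 1 2 3 2 4 (0, 1, 3, 5)) (tb_iff.1 (by decide)))

theorem z12 : Z F ((0, 1, 2, 3), (0, 1, 2, 4), (0, 1, 5, 6)) :=
  (Z_cn (Z_star 0 1 2 3 2 4 (0, 1, 5, 6)) (tb_iff.1 (by decide)))

theorem z13 : Z F ((0, 1, 2, 3), (0, 1, 2, 4), (0, 2, 1, 3)) :=
  (Z_cn (Z_star 0 1 2 3 2 4 (0, 2, 1, 3)) (tb_iff.1 (by decide)))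

theorem z14 : Z F ((0, 1, 2, 3), (0, 1, 2, 4), (0, 2, 1, 5)) :=
  (Z_cn (Z_star 0 1 2 3 2 4 (0, 2, 1, 5)) (tb_iff.1 (by decide)))

theorem z15 : Z F ((0, 1, 2, 3), (0, 1, 2, 4), (0, 2, 3, 4)) :=
  (Z_cn (Z_star 0 1 2 3 2 4 (0, 2, 3, 4)) (tb_iff.1 (by decide)))

theorem z16 : Z F ((0, 1, 2, 3), (0, 1, 2, 4), (0, 2, 3, 5)) :=
  (Z_cn (Z_star 0 1 2 3 2 4 (0, 2, 3, 5)) (tb_iff.1 (by decide)))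

theorem z17 : Z F ((0, 1, 2, 3), (0, 1, 2, 4), (0, 2, 5, 6)) :=
  (Z_cn (Z_star 0 1 2 3 2 4 (0, 2, 5, 6)) (tb_iff.1 (by decide)))

theorem z18 : Z F ((0, 1, 2, 3), (0, 1, 2, 4), (0, 3, 1, 4)) :=
  (Z_cn (Z_star 0 1 2 3 2 4 (0, 3, 1, 4)) (tb_iff.1 (by decide)))

theorem z19 : Z F ((0, 1, 2, 3), (0, 1, 2, 4), (0, 3, 1, 5)) :=
  (Z_cn (Z_star 0 1 2 3 2 4 (0, 3, 1, 5)) (tb_iff.1 (by decide)))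

theorem z20 : Z F ((0, 1, 2, 3), (0, 1, 2, 4), (0, 3, 2, 4)) :=
  (Z_cn (Z_star 0 1 2 3 2 4 (0, 3, 2, 4)) (tb_iff.1 (by decide)))

theorem z21 : Z F ((0, 1, 2, 3), (0, 1, 2, 4), (0, 3, 2, 5)) :=
  (Z_cn (Z_star 0 1 2 3 2 4 (0, 3, 2, 5)) (tb_iff.1 (by decide)))

theorem z22 : Z F ((0, 1, 2, 3), (0, 1, 2, 4), (0, 3, 4, 5)) :=
  (Z_cn (Z_star 0 1 2 3 2 4 (0, 3, 4, 5)) (tb_iff.1 (by decide)))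

theorem z23 : Z F ((0, 1, 2, 3), (0, 1, 2, 4), (0, 3, 5, 6)) :=
  (Z_cn (Z_star 0 1 2 3 2 4 (0, 3, 5, 6)) (tb_iff.1 (by decide)))

theorem z24 : Z F ((0, 1, 2, 3), (0, 1, 2, 4), (0, 5, 1, 6)) :=
  (Z_cn (Z_star 0 1 2 3 2 4 (0, 5, 1, 6)) (tb_iff.1 (by decide)))

theorem z25 : Z F ((0, 1, 2, 3), (0, 1, 2, 4), (0, 5, 2, 3)) :=
  (Z_cn (Z_star 0 1 2 3 2 4 (0, 5, 2, 3)) (tb_iff.1 (by decide)))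

theorem z26 : Z F ((0, 1, 2, 3), (0, 1, 2, 4), (0, 5, 2, 6)) :=
  (Z_cn (Z_star 0 1 2 3 2 4 (0, 5, 2, 6)) (tb_iff.1 (by decide)))

theorem z27 : Z F ((0, 1, 2, 3), (0, 1, 2, 4), (0, 5, 3, 4)) :=
  (Z_cn (Z_star 0 1 2 3 2 4 (0, 5, 3, 4)) (tb_iff.1 (by decide)))

theorem z28 : Z F ((0, 1, 2, 3), (0, 1, 2, 4), (0, 5, 3, 6)) :=
  (Z_cn (Z_star 0 1 2 3 2 4 (0, 5, 3, 6)) (tb_iff.1 (by decide)))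

theorem z29 : Z F ((0, 1, 2, 3), (0, 1, 2, 4), (2, 3, 4, 5)) :=
  (Z_cn (Z_star 0 1 2 3 2 4 (2, 3, 4, 5)) (tb_iff.1 (by decide)))

theorem z30 : Z F ((0, 1, 2, 3), (0, 1, 2, 4), (2, 3, 5, 6)) :=
  (Z_cn (Z_star 0 1 2 3 2 4 (2, 3, 5, 6)) (tb_iff.1 (by decide)))

theorem z31 : Z F ((0, 1, 2, 3), (0, 1, 2, 4), (2, 5, 3, 4)) :=
  (Z_cn (Z_star 0 1 2 3 2 4 (2, 5, 3, 4)) (tb_iff.1 (by decide)))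

theorem z32 : Z F ((0, 1, 2, 3), (0, 1, 2, 4), (2, 5, 3, 6)) :=
  (Z_cn (Z_star 0 1 2 3 2 4 (2, 5, 3, 6)) (tb_iff.1 (by decide)))

theorem z33 : Z F ((0, 1, 2, 3), (0, 1, 2, 4), (3, 4, 5, 6)) :=
  (Z_cn (Z_star 0 1 2 3 2 4 (3, 4, 5, 6)) (tb_iff.1 (by decide)))

theorem z34 : Z F ((0, 1, 2, 3), (0, 1, 2, 4), (3, 5, 4, 6)) :=
  (Z_cn (Z_star 0 1 2 3 2 4 (3, 5, 4, 6)) (tb_iff.1 (by decide)))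

theorem z35 : Z F ((0, 1, 2, 3), (0, 1, 4, 5), (0, 2, 1, 3)) :=
  (Z_cn (Z_star 0 1 2 3 4 5 (0, 2, 1, 3)) (tb_iff.1 (by decide)))

theorem z36 : Z F ((0, 1, 2, 3), (0, 1, 4, 5), (0, 2, 1, 4)) :=
  (Z_cn (Z_star 0 1 2 3 4 5 (0, 2, 1, 4)) (tb_iff.1 (by decide)))

theorem z37 : Z F ((0, 1, 2, 3), (0, 1, 4, 5), (0, 2, 1, 6)) :=
  (Z_cn (Z_star 0 1 2 3 4 5 (0, 2, 1, 6)) (tb_iff.1 (by decide)))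

theorem z38 : Z F ((0, 1, 2, 3), (0, 1, 4, 5), (0, 2, 3, 4)) :=
  (Z_cn (Z_star 0 1 2 3 4 5 (0, 2, 3, 4)) (tb_iff.1 (by decide)))

theorem z39 : Z F ((0, 1, 2, 3), (0, 1, 4, 5), (0, 2, 3, 6)) :=
  (Z_cn (Z_star 0 1 2 3 4 5 (0, 2, 3, 6)) (tb_iff.1 (by decide)))

theorem z40 : Z F ((0, 1, 2, 3), (0, 1, 4, 5), (0, 2, 4, 6)) :=
  (Z_cn (Z_star 0 1 2 3 4 5 (0, 2, 4, 6)) (tb_iff.1 (by decide)))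

theorem z41 : Z F ((0, 1, 2, 3), (0, 1, 4, 5), (0, 6, 2, 4)) :=
  (Z_cn (Z_star 0 1 2 3 4 5 (0, 6, 2, 4)) (tb_iff.1 (by decide)))

theorem z42 : Z F ((0, 1, 2, 3), (0, 1, 4, 5), (2, 3, 4, 5)) :=
  (Z_cn (Z_star 0 1 2 3 4 5 (2, 3, 4, 5)) (tb_iff.1 (by decide)))

theorem z43 : Z F ((0, 1, 2, 3), (0, 1, 4, 5), (2, 3, 4, 6)) :=
  (Z_cn (Z_star 0 1 2 3 4 5 (2, 3, 4, 6)) (tb_iff.1 (by decide)))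

theorem z44 : Z F ((0, 1, 2, 3), (0, 1, 4, 5), (2, 4, 3, 5)) :=
  (Z_cn (Z_star 0 1 2 3 4 5 (2, 4, 3, 5)) (tb_iff.1 (by decide)))

theorem z45 : Z F ((0, 1, 2, 3), (0, 1, 4, 5), (2, 4, 3, 6)) :=
  (Z_cn (Z_star 0 1 2 3 4 5 (2, 4, 3, 6)) (tb_iff.1 (by decide)))

variable (h2 : (2 : F) ≠ 0)
include h2

theorem z46 : Z F ((0, 1, 2, 3), (0, 2, 1, 3), (0, 3, 1, 2)) :=
  Z_cn (t := ((0, 1, 2, 3), (0, 2, 1, 3), (0, 3, 1, 2))) (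
    Z_three h2 (0, 1, 2, 3) (0, 2, 1, 3) 0 3 1 2 (by decide)
      (Z_cn (Z_star 0 1 2 3 2 3 (0, 2, 1, 3)) (tb_iff.1 (by decide)))
      (Z_cn (Z_star 0 2 1 3 1 3 (0, 1, 2, 3)) (tb_iff.1 (by decide)))) (tb_iff.1 (by decide))

theorem z47 : Z F ((0, 1, 2, 3), (0, 2, 1, 3), (0, 3, 1, 4)) :=
  Z_cn (t := ((0, 1, 2, 3), (0, 2, 1, 3), (0, 3, 1, 4))) (
    Z_three h2 (0, 1, 2, 3) (0, 2, 1, 3) 0 3 1 4 (by decide)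
      (Z_cn (Z_star 0 1 2 3 3 4 (0, 2, 1, 3)) (tb_iff.1 (by decide)))
      (Z_cn (Z_star 1 3 0 2 0 4 (0, 1, 2, 3)) (tb_iff.1 (by decide)))) (tb_iff.1 (by decide))

theorem z48 : Z F ((0, 1, 2, 3), (0, 2, 1, 3), (0, 3, 4, 5)) :=
  Z_cn (t := ((0, 1, 2, 3), (0, 3, 4, 5), (0, 2, 1, 3))) (
    Z_three h2 (0, 1, 2, 3) (0, 3, 4, 5) 0 2 1 3 (by decide)
      (Z_cn (Z_star 0 1 2 3 2 3 (0, 3, 4, 5)) (tb_iff.1 (by decide)))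
      (Z_cn (Z_star 0 3 4 5 1 2 (0, 1, 2, 3)) (tb_iff.1 (by decide)))) (tb_iff.1 (by decide))

theorem z52 : Z F ((0, 1, 2, 3), (0, 2, 1, 4), (0, 3, 1, 5)) :=
  Z_cn (t := ((0, 2, 1, 4), (0, 3, 1, 5), (0, 1, 2, 3))) (
    Z_three h2 (0, 2, 1, 4) (0, 3, 1, 5) 0 1 2 3 (by decide)
      (Z_cn (Z_star 0 2 1 4 1 3 (0, 3, 1, 5)) (tb_iff.1 (by decide)))
      (Z_cn (Z_star 0 3 1 5 1 2 (0, 2, 1, 4)) (tb_iff.1 (by decide)))) (tb_iff.1 (by decide))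

theorem z53 : Z F ((0, 1, 2, 3), (0, 2, 1, 4), (0, 3, 2, 4)) :=
  Z_cn (t := ((0, 1, 2, 3), (0, 2, 1, 4), (0, 3, 2, 4))) (
    Z_three h2 (0, 1, 2, 3) (0, 2, 1, 4) 0 3 2 4 (by decide)
      (Z_cn (Z_star 0 2 1 4 3 4 (0, 1, 2, 3)) (tb_iff.1 (by decide)))
      (Z_cn (Z_star 2 3 0 1 0 4 (0, 2, 1, 4)) (tb_iff.1 (by decide)))) (tb_iff.1 (by decide))

theorem z54 : Z F ((0, 1, 2, 3), (0, 2, 1, 4), (0, 3, 2, 5)) :=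
  Z_cn (t := ((0, 1, 2, 3), (0, 2, 1, 4), (0, 3, 2, 5))) (
    Z_three h2 (0, 1, 2, 3) (0, 2, 1, 4) 0 3 2 5 (by decide)
      (Z_cn (Z_star 0 2 1 4 3 5 (0, 1, 2, 3)) (tb_iff.1 (by decide)))
      (Z_cn (Z_star 2 3 0 1 0 5 (0, 2, 1, 4)) (tb_iff.1 (by decide)))) (tb_iff.1 (by decide))

theorem z55 : Z F ((0, 1, 2, 3), (0, 2, 1, 4), (0, 3, 4, 5)) :=
  Z_cn (t := ((0, 2, 1, 4), (0, 3, 4, 5), (0, 1, 2, 3))) (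
    Z_three h2 (0, 2, 1, 4) (0, 3, 4, 5) 0 1 2 3 (by decide)
      (Z_cn (Z_star 0 2 1 4 1 3 (0, 3, 4, 5)) (tb_iff.1 (by decide)))
      (Z_cn (Z_star 0 3 4 5 1 2 (0, 2, 1, 4)) (tb_iff.1 (by decide)))) (tb_iff.1 (by decide))

theorem z56 : Z F ((0, 1, 2, 3), (0, 2, 1, 4), (0, 3, 5, 6)) :=
  Z_cn (t := ((0, 2, 1, 4), (0, 3, 5, 6), (0, 1, 2, 3))) (
    Z_three h2 (0, 2, 1, 4) (0, 3, 5, 6) 0 1 2 3 (by decide)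
      (Z_cn (Z_star 0 2 1 4 1 3 (0, 3, 5, 6)) (tb_iff.1 (by decide)))
      (Z_cn (Z_star 0 3 5 6 1 2 (0, 2, 1, 4)) (tb_iff.1 (by decide)))) (tb_iff.1 (by decide))

theorem z57 : Z F ((0, 1, 2, 3), (0, 2, 1, 4), (0, 5, 1, 2)) :=
  Z_cn (t := ((0, 1, 2, 3), (0, 2, 1, 4), (0, 5, 1, 2))) (
    Z_three h2 (0, 1, 2, 3) (0, 2, 1, 4) 0 5 1 2 (by decide)
      (Z_cn (Z_star 0 1 2 3 2 5 (0, 2, 1, 4)) (tb_iff.1 (by decide)))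
      (Z_cn (Z_star 0 2 1 4 1 5 (0, 1, 2, 3)) (tb_iff.1 (by decide)))) (tb_iff.1 (by decide))

theorem z62 : Z F ((0, 1, 2, 3), (0, 2, 1, 4), (1, 2, 5, 6)) :=
  Z_cn (t := ((0, 1, 2, 3), (1, 2, 5, 6), (0, 2, 1, 4))) (
    Z_three h2 (0, 1, 2, 3) (1, 2, 5, 6) 0 2 1 4 (by decide)
      (Z_cn (Z_star 0 1 2 3 2 4 (1, 2, 5, 6)) (tb_iff.1 (by decide)))
      (Z_cn (Z_star 1 2 5 6 0 4 (0, 1, 2, 3)) (tb_iff.1 (by decide)))) (tb_iff.1 (by decide))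

theorem z73 : Z F ((0, 1, 2, 3), (0, 2, 4, 5), (0, 3, 4, 6)) :=
  Z_cn (t := ((0, 2, 4, 5), (0, 3, 4, 6), (0, 1, 2, 3))) (
    Z_three h2 (0, 2, 4, 5) (0, 3, 4, 6) 0 1 2 3 (by decide)
      (Z_cn (Z_star 0 2 4 5 1 3 (0, 3, 4, 6)) (tb_iff.1 (by decide)))
      (Z_cn (Z_star 0 3 4 6 1 2 (0, 2, 4, 5)) (tb_iff.1 (by decide)))) (tb_iff.1 (by decide))

theorem z51 : Z F ((0, 1, 2, 3), (0, 2, 1, 3), (0, 4, 5, 6)) :=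
  Z_cn (t := ((0, 1, 2, 3), (0, 2, 1, 3), (5, 6, 0, 4))) (
    Z_sum h2 (0, 1, 2, 3) (0, 2, 1, 3) 5 6 0 4 1 2 3 (by decide)
      (Z_cn (Z_star 0 1 2 3 5 6 (0, 2, 1, 3)) (tb_iff.1 (by decide)))
      (Z_cn (Z_star 0 2 1 3 5 6 (0, 1, 2, 3)) (tb_iff.1 (by decide)))
      (Z_of ![0, 1, 2, 3, 5, 6, 4] ((0, 1, 2, 3), (0, 2, 1, 3), (5, 6, 0, 3)) (z48 h2) (by decide))) (tb_iff.1 (by decide))

theorem z58 : Z F ((0, 1, 2, 3), (0, 2, 1, 4), (0, 5, 1, 3)) :=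
  Z_cn (t := ((0, 1, 2, 3), (0, 2, 1, 4), (0, 5, 1, 3))) (
    Z_three h2 (0, 1, 2, 3) (0, 2, 1, 4) 0 5 1 3 (by decide)
      (Z_cn (Z_star 0 1 2 3 3 5 (0, 2, 1, 4)) (tb_iff.1 (by decide)))
      (Z_of ![0, 1, 2, 3, 4, 5, 6] ((0, 1, 2, 3), (0, 2, 1, 4), (0, 3, 5, 1)) (z52 h2) (by decide))) (tb_iff.1 (by decide))

theorem z59 : Z F ((0, 1, 2, 3), (0, 2, 1, 4), (0, 5, 1, 6)) :=
  Z_cn (t := ((0, 1, 2, 3), (0, 2, 1, 4), (1, 6, 0, 5))) (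
    Z_sum h2 (0, 1, 2, 3) (0, 2, 1, 4) 1 6 0 5 2 3 4 (by decide)
      (Z_cn (Z_star 0 2 1 4 1 6 (0, 1, 2, 3)) (tb_iff.1 (by decide)))
      (Z_of ![0, 1, 2, 3, 4, 6, 5] ((0, 1, 2, 3), (0, 2, 1, 4), (1, 6, 0, 3)) (z52 h2) (by decide))
      (Z_of ![0, 2, 1, 4, 3, 6, 5] ((0, 1, 2, 3), (0, 2, 1, 4), (1, 6, 0, 4)) (z54 h2) (by decide))) (tb_iff.1 (by decide))

theorem z60 : Z F ((0, 1, 2, 3), (0, 2, 1, 4), (0, 5, 3, 4)) :=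
  Z_cn (t := ((0, 1, 2, 3), (0, 2, 1, 4), (0, 5, 3, 4))) (
    Z_three h2 (0, 1, 2, 3) (0, 2, 1, 4) 0 5 3 4 (by decide)
      (Z_of ![0, 1, 2, 3, 4, 5, 6] ((0, 1, 2, 3), (0, 2, 1, 4), (0, 3, 5, 4)) (z55 h2) (by decide))
      (Z_of ![0, 2, 1, 4, 3, 5, 6] ((0, 1, 2, 3), (0, 2, 1, 4), (0, 4, 5, 3)) (z55 h2) (by decide))) (tb_iff.1 (by decide))

theorem z61 : Z F ((0, 1, 2, 3), (0, 2, 1, 4), (0, 5, 3, 6)) :=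
  Z_cn (t := ((0, 1, 2, 3), (0, 2, 1, 4), (3, 6, 0, 5))) (
    Z_sum h2 (0, 1, 2, 3) (0, 2, 1, 4) 3 6 0 5 1 2 4 (by decide)
      (Z_cn (Z_star 0 1 2 3 3 6 (0, 2, 1, 4)) (tb_iff.1 (by decide)))
      (Z_cn (Z_star 0 2 1 4 3 6 (0, 1, 2, 3)) (tb_iff.1 (by decide)))
      (Z_of ![0, 2, 1, 4, 3, 6, 5] ((0, 1, 2, 3), (0, 2, 1, 4), (3, 6, 0, 4)) (z55 h2) (by decide))) (tb_iff.1 (by decide))

theorem z63 : Z F ((0, 1, 2, 3), (0, 2, 1, 4), (1, 3, 2, 4)) :=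
  Z_cn (t := ((0, 1, 2, 3), (0, 2, 1, 4), (1, 3, 2, 4))) (
    Z_three h2 (0, 1, 2, 3) (0, 2, 1, 4) 1 3 2 4 (by decide)
      (Z_of ![1, 4, 2, 0, 3, 5, 6] ((0, 1, 2, 3), (0, 2, 1, 4), (1, 2, 3, 4)) (z53 h2) (by decide))
      (Z_cn (Z_star 2 3 0 1 1 4 (0, 2, 1, 4)) (tb_iff.1 (by decide)))) (tb_iff.1 (by decide))

theorem z64 : Z F ((0, 1, 2, 3), (0, 2, 1, 4), (1, 3, 2, 5)) :=
  Z_cn (t := ((0, 1, 2, 3), (0, 2, 1, 4), (1, 3, 2, 5))) (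
    Z_three h2 (0, 1, 2, 3) (0, 2, 1, 4) 1 3 2 5 (by decide)
      (Z_of ![2, 3, 1, 0, 5, 4, 6] ((0, 1, 2, 3), (0, 2, 1, 4), (1, 2, 3, 5)) (z54 h2) (by decide))
      (Z_cn (Z_star 2 3 0 1 1 5 (0, 2, 1, 4)) (tb_iff.1 (by decide)))) (tb_iff.1 (by decide))

theorem z65 : Z F ((0, 1, 2, 3), (0, 2, 1, 4), (1, 3, 4, 5)) :=
  Z_cn (t := ((0, 1, 2, 3), (1, 3, 4, 5), (0, 2, 1, 4))) (
    Z_three h2 (0, 1, 2, 3) (1, 3, 4, 5) 0 2 1 4 (by decide)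
      (Z_cn (Z_star 0 1 2 3 2 4 (1, 3, 4, 5)) (tb_iff.1 (by decide)))
      (Z_of ![1, 0, 2, 3, 4, 5, 6] ((0, 1, 2, 3), (1, 3, 4, 5), (0, 4, 2, 1)) (z55 h2) (by decide))) (tb_iff.1 (by decide))

theorem z66 : Z F ((0, 1, 2, 3), (0, 2, 1, 4), (1, 3, 5, 6)) :=
  Z_cn (t := ((0, 1, 2, 3), (0, 2, 1, 4), (5, 6, 1, 3))) (
    Z_sum h2 (0, 1, 2, 3) (0, 2, 1, 4) 5 6 1 3 0 2 4 (by decide)
      (Z_cn (Z_star 0 1 2 3 5 6 (0, 2, 1, 4)) (tb_iff.1 (by decide)))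
      (Z_of ![0, 1, 2, 3, 4, 5, 6] ((0, 1, 2, 3), (0, 2, 1, 4), (5, 6, 1, 2)) (z62 h2) (by decide))
      (Z_cn (Z_star 1 4 0 2 5 6 (0, 1, 2, 3)) (tb_iff.1 (by decide)))) (tb_iff.1 (by decide))

theorem z69 : Z F ((0, 1, 2, 3), (0, 2, 1, 4), (1, 5, 3, 6)) :=
  Z_cn (t := ((0, 1, 2, 3), (0, 2, 1, 4), (3, 6, 1, 5))) (
    Z_sum h2 (0, 1, 2, 3) (0, 2, 1, 4) 3 6 1 5 0 2 4 (by decide)
      (Z_cn (Z_star 0 1 2 3 3 6 (0, 2, 1, 4)) (tb_iff.1 (by decide)))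
      (Z_of ![2, 3, 1, 0, 6, 4, 5] ((0, 1, 2, 3), (0, 2, 1, 4), (3, 6, 1, 2)) (z54 h2) (by decide))
      (Z_cn (Z_star 1 4 0 2 3 6 (0, 1, 2, 3)) (tb_iff.1 (by decide)))) (tb_iff.1 (by decide))

theorem z70 : Z F ((0, 1, 2, 3), (0, 2, 1, 4), (1, 5, 4, 6)) :=
  Z_cn (t := ((0, 2, 1, 4), (1, 5, 4, 6), (2, 3, 1, 0))) (
    Z_sum h2 (0, 2, 1, 4) (1, 5, 4, 6) 2 3 1 0 4 5 6 (by decide)
      (Z_cn (Z_star 1 4 0 2 2 3 (1, 5, 4, 6)) (tb_iff.1 (by decide)))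
      (Z_cn (Z_star 1 5 4 6 2 3 (0, 2, 1, 4)) (tb_iff.1 (by decide)))
      (Z_of ![1, 5, 4, 6, 2, 0, 3] ((0, 2, 1, 4), (1, 5, 4, 6), (2, 3, 1, 6)) (z73 h2) (by decide))) (tb_iff.1 (by decide))

theorem z81 : Z F ((0, 1, 2, 3), (0, 4, 2, 5), (0, 6, 3, 5)) :=
  Z_cn (t := ((0, 1, 2, 3), (0, 4, 2, 5), (3, 5, 0, 6))) (
    Z_sum h2 (0, 1, 2, 3) (0, 4, 2, 5) 3 5 0 6 1 2 4 (by decide)
      (Z_cn (Z_star 0 1 2 3 3 5 (0, 4, 2, 5)) (tb_iff.1 (by decide)))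
      (Z_of ![2, 0, 3, 5, 1, 4, 6] ((0, 1, 2, 3), (0, 4, 2, 5), (3, 5, 0, 2)) (z52 h2) (by decide))
      (Z_cn (Z_star 0 4 2 5 3 5 (0, 1, 2, 3)) (tb_iff.1 (by decide)))) (tb_iff.1 (by decide))

theorem z49 : Z F ((0, 1, 2, 3), (0, 2, 1, 3), (0, 4, 1, 5)) :=
  Z_cn (t := ((0, 1, 2, 3), (0, 4, 1, 5), (0, 2, 1, 3))) (
    Z_sum h2 (0, 1, 2, 3) (0, 4, 1, 5) 0 2 1 3 4 5 6 (by decide)
      (Z_of ![0, 2, 1, 4, 3, 5, 6] ((0, 1, 2, 3), (0, 4, 1, 5), (0, 2, 1, 4)) (z54 h2) (by decide))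
      (Z_cn (Z_star 1 5 0 4 0 2 (0, 1, 2, 3)) (tb_iff.1 (by decide)))
      (Z_of ![0, 1, 2, 3, 6, 4, 5] ((0, 1, 2, 3), (0, 4, 1, 5), (0, 2, 1, 6)) (z59 h2) (by decide))) (tb_iff.1 (by decide))

theorem z50 : Z F ((0, 1, 2, 3), (0, 2, 1, 3), (0, 4, 3, 5)) :=
  Z_cn (t := ((0, 1, 2, 3), (0, 4, 3, 5), (0, 2, 1, 3))) (
    Z_sum h2 (0, 1, 2, 3) (0, 4, 3, 5) 0 2 1 3 4 5 6 (by decide)
      (Z_of ![0, 2, 1, 4, 3, 5, 6] ((0, 1, 2, 3), (0, 4, 3, 5), (0, 2, 1, 4)) (z55 h2) (by decide))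
      (Z_of ![0, 1, 2, 3, 5, 4, 6] ((0, 1, 2, 3), (0, 4, 3, 5), (0, 2, 1, 5)) (z60 h2) (by decide))
      (Z_of ![0, 1, 2, 3, 6, 4, 5] ((0, 1, 2, 3), (0, 4, 3, 5), (0, 2, 1, 6)) (z61 h2) (by decide))) (tb_iff.1 (by decide))

theorem z67 : Z F ((0, 1, 2, 3), (0, 2, 1, 4), (1, 5, 2, 6)) :=
  Z_cn (t := ((0, 1, 2, 3), (0, 2, 1, 4), (1, 5, 2, 6))) (
    Z_sum h2 (0, 1, 2, 3) (0, 2, 1, 4) 1 5 2 6 0 3 4 (by decide)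
      (Z_cn (Z_star 0 2 1 4 1 5 (0, 1, 2, 3)) (tb_iff.1 (by decide)))
      (Z_cn (Z_star 2 3 0 1 1 5 (0, 2, 1, 4)) (tb_iff.1 (by decide)))
      (Z_of ![0, 2, 1, 4, 3, 5, 6] ((0, 1, 2, 3), (0, 2, 1, 4), (1, 5, 2, 4)) (z64 h2) (by decide))) (tb_iff.1 (by decide))

theorem z68 : Z F ((0, 1, 2, 3), (0, 2, 1, 4), (1, 5, 3, 4)) :=
  Z_cn (t := ((0, 1, 2, 3), (0, 2, 1, 4), (1, 5, 3, 4))) (
    Z_three h2 (0, 1, 2, 3) (0, 2, 1, 4) 1 5 3 4 (by decide)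
      (Z_of ![0, 1, 2, 3, 4, 5, 6] ((0, 1, 2, 3), (0, 2, 1, 4), (1, 3, 5, 4)) (z65 h2) (by decide))
      (Z_cn (Z_star 1 4 0 2 3 5 (0, 1, 2, 3)) (tb_iff.1 (by decide)))) (tb_iff.1 (by decide))

theorem z71 : Z F ((0, 1, 2, 3), (0, 2, 1, 4), (3, 4, 5, 6)) :=
  Z_cn (t := ((0, 1, 2, 3), (0, 2, 1, 4), (5, 6, 3, 4))) (
    Z_sum h2 (0, 1, 2, 3) (0, 2, 1, 4) 5 6 3 4 0 1 2 (by decide)
      (Z_of ![0, 1, 2, 3, 4, 5, 6] ((0, 1, 2, 3), (0, 2, 1, 4), (5, 6, 3, 0)) (z56 h2) (by decide))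
      (Z_of ![0, 1, 2, 3, 4, 5, 6] ((0, 1, 2, 3), (0, 2, 1, 4), (5, 6, 3, 1)) (z66 h2) (by decide))
      (Z_cn (Z_star 2 3 0 1 5 6 (0, 2, 1, 4)) (tb_iff.1 (by decide)))) (tb_iff.1 (by decide))

theorem z72 : Z F ((0, 1, 2, 3), (0, 2, 1, 4), (3, 5, 4, 6)) :=
  Z_cn (t := ((0, 1, 2, 3), (0, 2, 1, 4), (3, 5, 4, 6))) (
    Z_sum h2 (0, 1, 2, 3) (0, 2, 1, 4) 3 5 4 6 0 1 2 (by decide)
      (Z_of ![0, 2, 1, 4, 3, 5, 6] ((0, 1, 2, 3), (0, 2, 1, 4), (3, 5, 4, 0)) (z55 h2) (by decide))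
      (Z_cn (Z_star 1 4 0 2 3 5 (0, 1, 2, 3)) (tb_iff.1 (by decide)))
      (Z_of ![0, 2, 1, 4, 3, 5, 6] ((0, 1, 2, 3), (0, 2, 1, 4), (3, 5, 4, 2)) (z65 h2) (by decide))) (tb_iff.1 (by decide))

theorem z74 : Z F ((0, 1, 2, 3), (0, 2, 4, 5), (0, 4, 1, 6)) :=
  Z_cn (t := ((0, 1, 2, 3), (0, 2, 4, 5), (0, 4, 1, 6))) (
    Z_sum h2 (0, 1, 2, 3) (0, 2, 4, 5) 0 4 1 6 2 3 5 (by decide)
      (Z_of ![0, 4, 2, 1, 5, 3, 6] ((0, 1, 2, 3), (0, 2, 4, 5), (0, 4, 1, 2)) (z54 h2) (by decide))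
      (Z_of ![1, 0, 3, 2, 4, 5, 6] ((0, 1, 2, 3), (0, 2, 4, 5), (0, 4, 1, 3)) (z65 h2) (by decide))
      (Z_of ![4, 0, 5, 1, 2, 3, 6] ((0, 1, 2, 3), (0, 2, 4, 5), (0, 4, 1, 5)) (z65 h2) (by decide))) (tb_iff.1 (by decide))

theorem z75 : Z F ((0, 1, 2, 3), (0, 2, 4, 5), (0, 4, 3, 6)) :=
  Z_cn (t := ((0, 1, 2, 3), (0, 4, 3, 6), (4, 5, 0, 2))) (
    Z_sum h2 (0, 1, 2, 3) (0, 4, 3, 6) 4 5 0 2 1 3 6 (by decide)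
      (Z_cn (Z_star 0 1 2 3 4 5 (0, 4, 3, 6)) (tb_iff.1 (by decide)))
      (Z_of ![0, 3, 4, 5, 6, 1, 2] ((0, 1, 2, 3), (0, 4, 3, 6), (4, 5, 0, 3)) (z59 h2) (by decide))
      (Z_of ![0, 4, 6, 3, 5, 1, 2] ((0, 1, 2, 3), (0, 4, 3, 6), (4, 5, 0, 6)) (z61 h2) (by decide))) (tb_iff.1 (by decide))

theorem z76 : Z F ((0, 1, 2, 3), (0, 2, 4, 5), (0, 6, 3, 4)) :=
  Z_cn (t := ((0, 1, 2, 3), (0, 6, 3, 4), (4, 5, 0, 2))) (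
    Z_sum h2 (0, 1, 2, 3) (0, 6, 3, 4) 4 5 0 2 1 3 6 (by decide)
      (Z_cn (Z_star 0 1 2 3 4 5 (0, 6, 3, 4)) (tb_iff.1 (by decide)))
      (Z_of ![3, 0, 4, 5, 6, 2, 1] ((0, 1, 2, 3), (0, 6, 3, 4), (4, 5, 0, 3)) (z59 h2) (by decide))
      (Z_cn (Z_star 0 6 3 4 4 5 (0, 1, 2, 3)) (tb_iff.1 (by decide)))) (tb_iff.1 (by decide))

theorem z77 : Z F ((0, 1, 2, 3), (0, 2, 4, 5), (1, 3, 4, 6)) :=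
  Z_cn (t := ((0, 1, 2, 3), (0, 2, 4, 5), (1, 3, 4, 6))) (
    Z_sum h2 (0, 1, 2, 3) (0, 2, 4, 5) 1 3 4 6 0 2 5 (by decide)
      (Z_of ![1, 0, 3, 2, 4, 5, 6] ((0, 1, 2, 3), (0, 2, 4, 5), (1, 3, 4, 0)) (z65 h2) (by decide))
      (Z_of ![3, 2, 1, 0, 4, 5, 6] ((0, 1, 2, 3), (0, 2, 4, 5), (1, 3, 4, 2)) (z65 h2) (by decide))
      (Z_cn (Z_star 4 5 0 2 1 3 (0, 1, 2, 3)) (tb_iff.1 (by decide)))) (tb_iff.1 (by decide))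

theorem z79 : Z F ((0, 1, 2, 3), (0, 2, 4, 5), (1, 4, 3, 6)) :=
  Z_cn (t := ((0, 1, 2, 3), (0, 2, 4, 5), (3, 6, 4, 1))) (
    Z_sum h2 (0, 1, 2, 3) (0, 2, 4, 5) 3 6 4 1 0 2 5 (by decide)
      (Z_of ![0, 1, 2, 3, 4, 5, 6] ((0, 1, 2, 3), (0, 2, 4, 5), (3, 6, 4, 0)) (z75 h2) (by decide))
      (Z_of ![2, 0, 4, 5, 3, 6, 1] ((0, 1, 2, 3), (0, 2, 4, 5), (3, 6, 4, 2)) (z74 h2) (by decide))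
      (Z_cn (Z_star 4 5 0 2 3 6 (0, 1, 2, 3)) (tb_iff.1 (by decide)))) (tb_iff.1 (by decide))

theorem z80 : Z F ((0, 1, 2, 3), (0, 2, 4, 5), (1, 4, 5, 6)) :=
  Z_cn (t := ((0, 1, 2, 3), (0, 2, 4, 5), (5, 6, 1, 4))) (
    Z_sum h2 (0, 1, 2, 3) (0, 2, 4, 5) 5 6 1 4 0 2 3 (by decide)
      (Z_cn (Z_star 0 1 2 3 5 6 (0, 2, 4, 5)) (tb_iff.1 (by decide)))
      (Z_of ![2, 3, 0, 1, 5, 4, 6] ((0, 1, 2, 3), (0, 2, 4, 5), (5, 6, 1, 2)) (z73 h2) (by decide))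
      (Z_of ![0, 1, 2, 3, 5, 4, 6] ((0, 1, 2, 3), (0, 2, 4, 5), (5, 6, 1, 3)) (z77 h2) (by decide))) (tb_iff.1 (by decide))

theorem z78 : Z F ((0, 1, 2, 3), (0, 2, 4, 5), (1, 4, 3, 5)) :=
  Z_cn (t := ((0, 1, 2, 3), (0, 2, 4, 5), (1, 4, 3, 5))) (
    Z_sum h2 (0, 1, 2, 3) (0, 2, 4, 5) 1 4 3 5 0 2 6 (by decide)
      (Z_of ![0, 1, 3, 2, 4, 5, 6] ((0, 1, 2, 3), (0, 2, 4, 5), (1, 4, 3, 0)) (z55 h2) (by decide))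
      (Z_cn (Z_star 2 3 0 1 1 4 (0, 2, 4, 5)) (tb_iff.1 (by decide)))
      (Z_of ![0, 1, 2, 3, 4, 5, 6] ((0, 1, 2, 3), (0, 2, 4, 5), (1, 4, 3, 6)) (z79 h2) (by decide))) (tb_iff.1 (by decide))

theorem z83 : Z F ((0, 1, 2, 3), (0, 4, 2, 5), (1, 4, 3, 6)) :=
  Z_cn (t := ((0, 1, 2, 3), (0, 4, 2, 5), (3, 6, 4, 1))) (
    Z_sum h2 (0, 1, 2, 3) (0, 4, 2, 5) 3 6 4 1 0 2 5 (by decide)
      (Z_cn (Z_star 0 4 2 5 3 6 (0, 1, 2, 3)) (tb_iff.1 (by decide)))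
      (Z_of ![2, 5, 4, 0, 3, 6, 1] ((0, 1, 2, 3), (0, 4, 2, 5), (3, 6, 4, 2)) (z75 h2) (by decide))
      (Z_of ![5, 2, 4, 0, 3, 6, 1] ((0, 1, 2, 3), (0, 4, 2, 5), (3, 6, 4, 5)) (z79 h2) (by decide))) (tb_iff.1 (by decide))

theorem z85 : Z F ((0, 1, 2, 3), (0, 4, 2, 5), (1, 5, 3, 6)) :=
  Z_cn (t := ((0, 1, 2, 3), (0, 4, 2, 5), (3, 6, 5, 1))) (
    Z_sum h2 (0, 1, 2, 3) (0, 4, 2, 5) 3 6 5 1 0 2 4 (by decide)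
      (Z_of ![0, 4, 5, 2, 3, 6, 1] ((0, 1, 2, 3), (0, 4, 2, 5), (3, 6, 5, 0)) (z76 h2) (by decide))
      (Z_cn (Z_star 2 5 0 4 3 6 (0, 1, 2, 3)) (tb_iff.1 (by decide)))
      (Z_of ![5, 2, 4, 0, 3, 6, 1] ((0, 1, 2, 3), (0, 4, 2, 5), (3, 6, 5, 4)) (z79 h2) (by decide))) (tb_iff.1 (by decide))

theorem z82 : Z F ((0, 1, 2, 3), (0, 4, 2, 5), (1, 4, 3, 5)) :=
  Z_cn (t := ((0, 1, 2, 3), (0, 4, 2, 5), (1, 4, 3, 5))) (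
    Z_sum h2 (0, 1, 2, 3) (0, 4, 2, 5) 1 4 3 5 0 2 6 (by decide)
      (Z_of ![0, 3, 1, 4, 2, 5, 6] ((0, 1, 2, 3), (0, 4, 2, 5), (1, 4, 3, 0)) (z55 h2) (by decide))
      (Z_cn (Z_star 2 3 0 1 1 4 (0, 4, 2, 5)) (tb_iff.1 (by decide)))
      (Z_of ![0, 1, 2, 3, 4, 5, 6] ((0, 1, 2, 3), (0, 4, 2, 5), (1, 4, 3, 6)) (z83 h2) (by decide))) (tb_iff.1 (by decide))

theorem z84 : Z F ((0, 1, 2, 3), (0, 4, 2, 5), (1, 5, 3, 4)) :=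
  Z_cn (t := ((0, 1, 2, 3), (0, 4, 2, 5), (1, 5, 3, 4))) (
    Z_sum h2 (0, 1, 2, 3) (0, 4, 2, 5) 1 5 3 4 0 2 6 (by decide)
      (Z_of ![0, 1, 3, 2, 5, 4, 6] ((0, 1, 2, 3), (0, 4, 2, 5), (1, 5, 3, 0)) (z60 h2) (by decide))
      (Z_cn (Z_star 2 3 0 1 1 5 (0, 4, 2, 5)) (tb_iff.1 (by decide)))
      (Z_of ![0, 1, 2, 3, 4, 5, 6] ((0, 1, 2, 3), (0, 4, 2, 5), (1, 5, 3, 6)) (z85 h2) (by decide))) (tb_iff.1 (by decide))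

end

/-- the representatives of the orbits -/
def reps : List T := [((0, 1, 2, 3), (0, 1, 2, 3), (0, 1, 2, 3)), ((0, 1, 2, 3), (0, 1, 2, 3), (0, 1, 2, 4)),
  ((0, 1, 2, 3), (0, 1, 2, 3), (0, 1, 4, 5)), ((0, 1, 2, 3), (0, 1, 2, 3), (0, 2, 1, 3)),
  ((0, 1, 2, 3), (0, 1, 2, 3), (0, 2, 1, 4)), ((0, 1, 2, 3), (0, 1, 2, 3), (0, 2, 4, 5)),
  ((0, 1, 2, 3), (0, 1, 2, 3), (0, 4, 1, 5)), ((0, 1, 2, 3), (0, 1, 2, 3), (0, 4, 2, 5)),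
  ((0, 1, 2, 3), (0, 1, 2, 3), (0, 4, 5, 6)), ((0, 1, 2, 3), (0, 1, 2, 4), (0, 1, 2, 5)),
  ((0, 1, 2, 3), (0, 1, 2, 4), (0, 1, 3, 4)), ((0, 1, 2, 3), (0, 1, 2, 4), (0, 1, 3, 5)),
  ((0, 1, 2, 3), (0, 1, 2, 4), (0, 1, 5, 6)), ((0, 1, 2, 3), (0, 1, 2, 4), (0, 2, 1, 3)),
  ((0, 1, 2, 3), (0, 1, 2, 4), (0, 2, 1, 5)), ((0, 1, 2, 3), (0, 1, 2, 4), (0, 2, 3, 4)),
  ((0, 1, 2, 3), (0, 1, 2, 4), (0, 2, 3, 5)), ((0, 1, 2, 3), (0, 1, 2, 4), (0, 2, 5, 6)),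
  ((0, 1, 2, 3), (0, 1, 2, 4), (0, 3, 1, 4)), ((0, 1, 2, 3), (0, 1, 2, 4), (0, 3, 1, 5)),
  ((0, 1, 2, 3), (0, 1, 2, 4), (0, 3, 2, 4)), ((0, 1, 2, 3), (0, 1, 2, 4), (0, 3, 2, 5)),
  ((0, 1, 2, 3), (0, 1, 2, 4), (0, 3, 4, 5)), ((0, 1, 2, 3), (0, 1, 2, 4), (0, 3, 5, 6)),
  ((0, 1, 2, 3), (0, 1, 2, 4), (0, 5, 1, 6)), ((0, 1, 2, 3), (0, 1, 2, 4), (0, 5, 2, 3)),
  ((0, 1, 2, 3), (0, 1, 2, 4), (0, 5, 2, 6)), ((0, 1, 2, 3), (0, 1, 2, 4), (0, 5, 3, 4)),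
  ((0, 1, 2, 3), (0, 1, 2, 4), (0, 5, 3, 6)), ((0, 1, 2, 3), (0, 1, 2, 4), (2, 3, 4, 5)),
  ((0, 1, 2, 3), (0, 1, 2, 4), (2, 3, 5, 6)), ((0, 1, 2, 3), (0, 1, 2, 4), (2, 5, 3, 4)),
  ((0, 1, 2, 3), (0, 1, 2, 4), (2, 5, 3, 6)), ((0, 1, 2, 3), (0, 1, 2, 4), (3, 4, 5, 6)),
  ((0, 1, 2, 3), (0, 1, 2, 4), (3, 5, 4, 6)), ((0, 1, 2, 3), (0, 1, 4, 5), (0, 2, 1, 3)),
  ((0, 1, 2, 3), (0, 1, 4, 5), (0, 2, 1, 4)), ((0, 1, 2, 3), (0, 1, 4, 5), (0, 2, 1, 6)),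
  ((0, 1, 2, 3), (0, 1, 4, 5), (0, 2, 3, 4)), ((0, 1, 2, 3), (0, 1, 4, 5), (0, 2, 3, 6)),
  ((0, 1, 2, 3), (0, 1, 4, 5), (0, 2, 4, 6)), ((0, 1, 2, 3), (0, 1, 4, 5), (0, 6, 2, 4)),
  ((0, 1, 2, 3), (0, 1, 4, 5), (2, 3, 4, 5)), ((0, 1, 2, 3), (0, 1, 4, 5), (2, 3, 4, 6)),
  ((0, 1, 2, 3), (0, 1, 4, 5), (2, 4, 3, 5)), ((0, 1, 2, 3), (0, 1, 4, 5), (2, 4, 3, 6)),
  ((0, 1, 2, 3), (0, 2, 1, 3), (0, 3, 1, 2)), ((0, 1, 2, 3), (0, 2, 1, 3), (0, 3, 1, 4)),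
  ((0, 1, 2, 3), (0, 2, 1, 3), (0, 3, 4, 5)), ((0, 1, 2, 3), (0, 2, 1, 3), (0, 4, 1, 5)),
  ((0, 1, 2, 3), (0, 2, 1, 3), (0, 4, 3, 5)), ((0, 1, 2, 3), (0, 2, 1, 3), (0, 4, 5, 6)),
  ((0, 1, 2, 3), (0, 2, 1, 4), (0, 3, 1, 5)), ((0, 1, 2, 3), (0, 2, 1, 4), (0, 3, 2, 4)),
  ((0, 1, 2, 3), (0, 2, 1, 4), (0, 3, 2, 5)), ((0, 1, 2, 3), (0, 2, 1, 4), (0, 3, 4, 5)),
  ((0, 1, 2, 3), (0, 2, 1, 4), (0, 3, 5, 6)), ((0, 1, 2, 3), (0, 2, 1, 4), (0, 5, 1, 2)),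
  ((0, 1, 2, 3), (0, 2, 1, 4), (0, 5, 1, 3)), ((0, 1, 2, 3), (0, 2, 1, 4), (0, 5, 1, 6)),
  ((0, 1, 2, 3), (0, 2, 1, 4), (0, 5, 3, 4)), ((0, 1, 2, 3), (0, 2, 1, 4), (0, 5, 3, 6)),
  ((0, 1, 2, 3), (0, 2, 1, 4), (1, 2, 5, 6)), ((0, 1, 2, 3), (0, 2, 1, 4), (1, 3, 2, 4)),
  ((0, 1, 2, 3), (0, 2, 1, 4), (1, 3, 2, 5)), ((0, 1, 2, 3), (0, 2, 1, 4), (1, 3, 4, 5)),
  ((0, 1, 2, 3), (0, 2, 1, 4), (1, 3, 5, 6)), ((0, 1, 2, 3), (0, 2, 1, 4), (1, 5, 2, 6)),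
  ((0, 1, 2, 3), (0, 2, 1, 4), (1, 5, 3, 4)), ((0, 1, 2, 3), (0, 2, 1, 4), (1, 5, 3, 6)),
  ((0, 1, 2, 3), (0, 2, 1, 4), (1, 5, 4, 6)), ((0, 1, 2, 3), (0, 2, 1, 4), (3, 4, 5, 6)),
  ((0, 1, 2, 3), (0, 2, 1, 4), (3, 5, 4, 6)), ((0, 1, 2, 3), (0, 2, 4, 5), (0, 3, 4, 6)),
  ((0, 1, 2, 3), (0, 2, 4, 5), (0, 4, 1, 6)), ((0, 1, 2, 3), (0, 2, 4, 5), (0, 4, 3, 6)),
  ((0, 1, 2, 3), (0, 2, 4, 5), (0, 6, 3, 4)), ((0, 1, 2, 3), (0, 2, 4, 5), (1, 3, 4, 6)),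
  ((0, 1, 2, 3), (0, 2, 4, 5), (1, 4, 3, 5)), ((0, 1, 2, 3), (0, 2, 4, 5), (1, 4, 3, 6)),
  ((0, 1, 2, 3), (0, 2, 4, 5), (1, 4, 5, 6)), ((0, 1, 2, 3), (0, 4, 2, 5), (0, 6, 3, 5)),
  ((0, 1, 2, 3), (0, 4, 2, 5), (1, 4, 3, 5)), ((0, 1, 2, 3), (0, 4, 2, 5), (1, 4, 3, 6)),
  ((0, 1, 2, 3), (0, 4, 2, 5), (1, 5, 3, 4)), ((0, 1, 2, 3), (0, 4, 2, 5), (1, 5, 3, 6))]

theorem reps_zero (h2 : (2 : F) ≠ 0) : ∀ t ∈ reps, Z F t := by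
  simp only [reps, List.forall_mem_cons, List.not_mem_nil, false_imp_iff, implies_true, and_true]
  exact ⟨z0, z1, z2, z3, z4, z5, z6, z7, z8, z9, z10, z11, z12, z13, z14, z15, z16, z17, z18, z19, z20, z21, z22, z23,
  z24, z25, z26, z27, z28, z29, z30, z31, z32, z33, z34, z35, z36, z37, z38, z39, z40, z41, z42, z43, z44, z45,
  z46 h2, z47 h2, z48 h2, z49 h2, z50 h2, z51 h2, z52 h2, z53 h2, z54 h2, z55 h2, z56 h2, z57 h2, z58 h2, z59 h2,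
  z60 h2, z61 h2, z62 h2, z63 h2, z64 h2, z65 h2, z66 h2, z67 h2, z68 h2, z69 h2, z70 h2, z71 h2, z72 h2, z73 h2,
  z74 h2, z75 h2, z76 h2, z77 h2, z78 h2, z79 h2, z80 h2, z81 h2, z82 h2, z83 h2, z84 h2, z85 h2⟩

end Cfsg.Agent.H879.E6.Uniq
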